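import Cfsg.Agent.PGU3Rec.Setup
import Cfsg.Agent.Core.FPF

/-! # The stabilizer of two points exchanged by an involution -/

set_option autoImplicit false

namespace Cfsg.Agent.PGU3Rec

open Cfsg.Agent.AutPSU Cfsg.Agent.PSU3Sylow Classical.Herm SemidirectProduct

variable {F : Type*} [Field F] [CharP F 2] {σ : F →+* F} {q : ℕ} {hu : UCtx σ q}
  {G : Type*} [Group G] [Fintype F] [Finite G]

/-- The product of two elements with coprime exponents is trivial. -/
theorem eq_one_of_pow_coprime {M : Type*} [Group M] {g : M} {m n : ℕ} (h : Nat.Coprime m n) (hm : g ^ m = 1)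
    (hn : g ^ n = 1) : g = 1 :=
  orderOf_eq_one_iff.1 (Nat.eq_one_of_dvd_coprimes h (orderOf_dvd_of_pow_eq_one hm) (orderOf_dvd_of_pow_eq_one hn))

namespace Ctx

variable (c : Ctx hu G)

include c in
theorem coprime_sub_add : Nat.Coprime (q - 1) (q + 1) := by
  have hodd : Odd (q - 1) := c.odd_sub
  have hq := c.hq
  have h2 : Nat.Coprime (q - 1) 2 :=
    (Nat.prime_two.coprime_iff_not_dvd.2 (fun h => (Nat.not_even_iff_odd.2 hodd) (even_iff_two_dvd.2 h))).symm
  rw [show q + 1 = 2 + (q - 1) by omega]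
  exact Nat.coprime_add_self_right.2 h2

/-- The point fixed by `H`. -/
abbrev base : G ⧸ c.H := QuotientGroup.mk 1

theorem mem_H_iff_smul {g : G} : g ∈ c.H ↔ g • c.base = c.base := by
  rw [MulAction.Quotient.smul_mk, smul_eq_mul, mul_one, QuotientGroup.eq, mul_one, inv_mem_iff]

/-- Conjugation of `H` on the centralizer. -/
def conjC : ↥c.H →* MulAut ↥c.C where
  toFun h :=
    { toFun := fun z => ⟨(h : G) * z * (h : G)⁻¹, (Subgroup.mem_normalizer_iff.1 h.2 _).1 z.2⟩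
      invFun := fun z => ⟨(h : G)⁻¹ * z * (h : G), (Subgroup.mem_normalizer_iff.1 h.2 _).2 (by
        simpa [mul_assoc] using z.2)⟩
      left_inv := fun z => Subtype.ext (by simp [mul_assoc])
      right_inv := fun z => Subtype.ext (by simp [mul_assoc])
      map_mul' := fun y z => Subtype.ext (by simp [mul_assoc]) }
  map_one' := MulEquiv.ext fun z => Subtype.ext (by simp)
  map_mul' g h := MulEquiv.ext fun z => Subtype.ext (by simp [mul_assoc])

theorem conjC_coe (h : ↥c.H) (z : ↥c.C) : ((c.conjC h z : ↥c.C) : G) = (h : G) * z * (h : G)⁻¹ := rfl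

variable {u : G}

/-- The stabilizer of the base point and of its image. -/
def D (u : G) : Subgroup G := c.H ⊓ MulAction.stabilizer G (u • c.base)

theorem mem_D (hu2 : orderOf u = 2) {g : G} : g ∈ c.D u ↔ g ∈ c.H ∧ u * g * u ∈ c.H := by
  rw [D, Subgroup.mem_inf, MulAction.mem_stabilizer_iff, and_congr_right_iff]
  intro _
  rw [c.mem_H_iff_smul, mul_smul, mul_smul, smul_eq_iff_eq_inv_smul (g := u), Invol.inv_eq_self hu2]

theorem D_odd (hu2 : orderOf u = 2) (huH : u ∉ c.H) : Odd (Nat.card (c.D u)) := by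
  have h : c.D u = c.H ⊓ c.H.map (MulAut.conj u).toMonoidHom := by
    ext g
    rw [c.mem_D hu2, Subgroup.mem_inf, Invol.mem_map_conj_iff, Invol.inv_eq_self hu2]
  rw [h]
  exact c.se.2.2 u huH

theorem conj_mem_D (hu2 : orderOf u = 2) {g : G} (hg : g ∈ c.D u) : u * g * u ∈ c.D u := by
  rw [c.mem_D hu2] at hg ⊢
  refine ⟨hg.2, ?_⟩
  rw [show u * (u * g * u) * u = (u * u) * g * (u * u) by group, Invol.mul_self_eq_one hu2, one_mul, mul_one]
  exact hg.1

theorem pow_odd_eq_one {D : Subgroup G} (hD : Odd (Nat.card D)) {g : G} (hg : g ∈ D) (h : g * g = 1) : g = 1 := by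
  refine eq_one_of_pow_coprime (Nat.coprime_two_left.2 hD) (by rw [pow_two, h]) ?_
  exact congrArg Subtype.val (pow_card_eq_one' (x := (⟨g, hg⟩ : D)))

theorem eq_one_of_mem_P {D : Subgroup G} (hD : Odd (Nat.card D)) {g : G} (hg : g ∈ D) (hP : g ∈ c.P) : g = 1 := by
  refine eq_one_of_pow_coprime (m := q ^ 3) ?_ (c.mem_P_iff.1 hP).2
    (congrArg Subtype.val (pow_card_eq_one' (x := (⟨g, hg⟩ : D))))
  obtain ⟨k, -, hk⟩ := FiniteField.card F 2
  rw [hu_card hu] at hk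
  obtain ⟨m, -, hm⟩ := (Nat.dvd_prime_pow Nat.prime_two).1 (Dvd.intro q ((pow_two q).symm.trans hk))
  rw [hm]
  exact ((Nat.coprime_two_left.2 hD).pow_left m).pow_left 3

theorem pow_add_one_of_mem (hu2 : orderOf u = 2) (huH : u ∉ c.H) {g : G} (hg : g ∈ c.D u) (hgC : g ∈ c.C) :
    g ^ (q + 1) = 1 := by
  refine c.eq_one_of_mem_P (c.D_odd hu2 huH) (pow_mem hg _) ?_
  refine (c.coe_mem_P (⟨g, hgC⟩ ^ (q + 1))).2 ?_
  rw [map_pow, ← rightHom_eq_right, map_pow, rightHom_eq_right]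
  exact pow_right _

theorem mem_C_of_pow {g : G} (hg : g ∈ c.H) (h : g ^ (q + 1) = 1) : g ∈ c.C := by
  obtain ⟨k, hk⟩ : ∃ k, (g ^ (q - 1)) ^ k = g := exists_pow_eq_self_of_coprime
    ((c.coprime_sub_add).coprime_dvd_right (orderOf_dvd_of_pow_eq_one h))
  rw [← hk]
  exact pow_mem (c.pow_mem_C hg) k

theorem commute_of_mem_C (hu2 : orderOf u = 2) (huH : u ∉ c.H) {g h : G} (hg : g ∈ c.D u) (hgC : g ∈ c.C)
    (hh : h ∈ c.D u) (hhC : h ∈ c.C) : g * h = h * g := by
  have h1 : g * h * g⁻¹ * h⁻¹ ∈ c.P := by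
    refine (c.coe_mem_P ((⟨g, hgC⟩ : ↥c.C) * ⟨h, hhC⟩ * ⟨g, hgC⟩⁻¹ * ⟨h, hhC⟩⁻¹)).2 ?_
    simp only [map_mul, map_inv, SemidirectProduct.mul_right, SemidirectProduct.inv_right]
    rw [mul_comm (c.e ⟨g, hgC⟩).right, mul_inv_cancel_right, mul_inv_cancel]
  have h2 := c.eq_one_of_mem_P (c.D_odd hu2 huH) (mul_mem (mul_mem (mul_mem hg hh) (inv_mem hg)) (inv_mem hh)) h1
  calc g * h = (g * h * g⁻¹ * h⁻¹) * (h * g) := by group
    _ = h * g := by rw [h2, one_mul]

theorem inverted_C_eq_one (hu2 : orderOf u = 2) (huH : u ∉ c.H) {g : G} (hgC : g ∈ c.C) (hgo : Odd (orderOf g))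
    (h : u * g * u = g⁻¹) : g = 1 := by
  have hxg : c.x * g = g * c.x := (Subgroup.mem_centralizer_singleton_iff.1 hgC).symm
  obtain ⟨m, hm⟩ := Invol.se_odd_of_mem_of_notMem c.se c.hx (c.C_le c.x_mem) hu2 huH
  have key : (c.x * u) * g * (c.x * u)⁻¹ = g⁻¹ := by
    rw [mul_inv_rev, Invol.inv_eq_self c.hx, Invol.inv_eq_self hu2,
      show c.x * u * g * (u * c.x) = c.x * (u * g * u) * c.x by group, h]
    have h1 : c.x * g⁻¹ = g⁻¹ * c.x := ((Commute.symm hxg.symm).inv_right).eq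
    rw [h1, mul_assoc, Invol.mul_self_eq_one c.hx, mul_one]
  have h2 : ∀ i, (c.x * u) ^ (2 * i + 1) * g * ((c.x * u) ^ (2 * i + 1))⁻¹ = g⁻¹ := by
    intro i
    generalize c.x * u = y at key ⊢
    induction i with
    | zero => rw [mul_zero, zero_add, pow_one, key]
    | succ i ih =>
      rw [show 2 * (i + 1) + 1 = 1 + 1 + (2 * i + 1) by ring, pow_add, pow_add, pow_one]
      generalize y ^ (2 * i + 1) = z at ih ⊢
      calc y * y * z * g * (y * y * z)⁻¹ = y * (y * (z * g * z⁻¹) * y⁻¹) * y⁻¹ := by group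
        _ = g⁻¹ := by rw [ih, show y * g⁻¹ * y⁻¹ = (y * g * y⁻¹)⁻¹ by group, key, inv_inv, key]
  have h3 := h2 m
  rw [← hm, pow_orderOf_eq_one, one_mul, inv_one, mul_one] at h3
  exact eq_one_of_pow_coprime (Nat.coprime_two_left.2 hgo) (by rw [pow_two]; nth_rw 1 [h3]; rw [inv_mul_cancel])
    (pow_orderOf_eq_one g)

theorem odd_orderOf {D : Subgroup G} (hD : Odd (Nat.card D)) {g : G} (hg : g ∈ D) : Odd (orderOf g) :=
  hD.of_dvd_nat ((Subgroup.orderOf_mk g hg).symm.dvd.trans (orderOf_dvd_natCard _))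

theorem centralizes_DC (hu2 : orderOf u = 2) (huH : u ∉ c.H) {g : G} (hg : g ∈ c.D u) (hgC : g ∈ c.C) :
    u * g * u = g := by
  have h1 : u * g * u ∈ c.D u := c.conj_mem_D hu2 hg
  have h2 : (u * g * u) ^ (q + 1) = 1 := by
    conv_lhs => rw [show u * g * u = u * g * u⁻¹ by rw [Invol.inv_eq_self hu2]]
    rw [conj_pow, c.pow_add_one_of_mem hu2 huH hg hgC, mul_one, mul_inv_cancel]
  have h3 := c.mem_C_of_pow h1.1 h2
  set y := g⁻¹ * (u * g * u) with hy
  have hy1 : y = 1 := by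
    refine c.inverted_C_eq_one hu2 huH (mul_mem (inv_mem hgC) h3)
      (odd_orderOf (c.D_odd hu2 huH) (mul_mem (inv_mem hg) h1)) ?_
    have huu := Invol.mul_self_eq_one hu2
    calc u * y * u = u * g⁻¹ * u * g * (u * u) := by rw [hy]; group
      _ = (u * g * u)⁻¹ * g := by rw [huu, mul_one, mul_inv_rev, mul_inv_rev, Invol.inv_eq_self hu2, mul_assoc u]
      _ = y⁻¹ := by rw [hy]; group
  exact (inv_mul_eq_one.1 hy1).symm

theorem card_inverted (hu2 : orderOf u = 2) (huH : u ∉ c.H) :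
    Nat.card (Cfsg.invertedBy (c.D u) u) = q - 1 := by
  have huu := Invol.mul_self_eq_one hu2
  have hb : u • c.base ≠ c.base := fun h => huH (c.mem_H_iff_smul.2 h)
  rw [← c.card_Z]
  have h1 : Nat.card {i : G // orderOf i = 2 ∧ i • c.base = u • c.base} =
      Nat.card {t : G // orderOf t = 2 ∧ t ∈ c.H} := Invol.card_involutions_coset c.se hb
  have h2 : Nat.card {t : G // orderOf t = 2 ∧ t ∈ c.H} = Nat.card c.Z :=
    Nat.card_congr (Equiv.subtypeEquivRight fun t => ⟨fun h => ⟨h.1, c.invol_mem_C h.1 h.2⟩, fun h => ⟨h.1, c.C_le h.2⟩⟩)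
  rw [← h2, ← h1]
  refine Nat.card_congr
    { toFun := fun d => ⟨d.1 * u, ?_, ?_⟩
      invFun := fun i => ⟨i.1 * u, ?_, ?_⟩
      left_inv := fun d => Subtype.ext (by show d.1 * u * u = d.1; rw [mul_assoc, huu, mul_one])
      right_inv := fun i => Subtype.ext (by show i.1 * u * u = i.1; rw [mul_assoc, huu, mul_one]) }
  · refine orderOf_eq_prime ?_ fun h => ?_
    · have hd := d.2.2
      rw [Invol.inv_eq_self hu2] at hd
      calc (d.1 * u) ^ 2 = d.1 * (u * d.1 * u) := by rw [pow_two]; group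
        _ = 1 := by rw [hd, mul_inv_cancel]
    · refine huH ?_
      rw [← inv_mul_cancel_left d.1 u, h, mul_one]
      exact inv_mem d.2.1.1
  · rw [mul_smul]
    exact MulAction.mem_stabilizer_iff.1 d.2.1.2
  · have hi := Invol.mul_self_eq_one i.2.1
    refine Subgroup.mem_inf.2 ⟨c.mem_H_iff_smul.2 ?_, MulAction.mem_stabilizer_iff.2 ?_⟩
    · rw [mul_smul]
      exact (congrArg (i.1 • ·) i.2.2.symm).trans (by rw [← mul_smul, hi, one_smul])
    · rw [mul_smul, ← mul_smul u, huu, one_smul, i.2.2]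
  · rw [mul_inv_rev, Invol.inv_eq_self hu2, Invol.inv_eq_self i.2.1,
      show u * (i.1 * u) * u = u * i.1 * (u * u) by group, huu, mul_one]

theorem exists_decomp (hu2 : orderOf u = 2) (huH : u ∉ c.H) {d : G} (hd : d ∈ c.H) :
    ∃ i ∈ Cfsg.invertedBy (c.D u) u, i⁻¹ * d ∈ c.C := by
  let f : Cfsg.invertedBy (c.D u) u → ↥c.H ⧸ c.C.subgroupOf c.H := fun i => QuotientGroup.mk ⟨i.1, i.2.1.1⟩
  have hf : Function.Injective f := fun i j hij => by
    rw [QuotientGroup.eq, Subgroup.mem_subgroupOf] at hij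
    have hij' : i.1⁻¹ * j.1 ∈ c.C := hij
    have hw := c.centralizes_DC hu2 huH (mul_mem (inv_mem i.2.1) j.2.1) hij'
    have hi := i.2.2
    have hj := j.2.2
    rw [Invol.inv_eq_self hu2] at hi hj
    have huu := Invol.mul_self_eq_one hu2
    have h1 : i.1 * j.1⁻¹ = i.1⁻¹ * j.1 := by
      calc i.1 * j.1⁻¹ = (u * i.1 * u)⁻¹ * (u * j.1 * u) := by rw [hi, hj, inv_inv]
        _ = u⁻¹ * (i.1⁻¹ * j.1) * u := by group
        _ = _ := by rw [Invol.inv_eq_self hu2, hw]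
    set w := i.1⁻¹ * j.1 with hwd
    have hjw : j.1 = i.1 * w := by rw [hwd]; group
    have h2 : i.1 * w⁻¹ * i.1⁻¹ = w := by
      rw [hjw] at h1
      calc i.1 * w⁻¹ * i.1⁻¹ = i.1 * (i.1 * w)⁻¹ := by group
        _ = w := h1
    have h3 : ∀ k : ℕ, i.1 ^ (2 * k) * w * (i.1 ^ (2 * k))⁻¹ = w := by
      intro k
      induction k with
      | zero => simp
      | succ k ih =>
        have h4 : i.1 * w * i.1⁻¹ = w⁻¹ := by
          calc i.1 * w * i.1⁻¹ = (i.1 * w⁻¹ * i.1⁻¹)⁻¹ := by group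
            _ = w⁻¹ := by rw [h2]
        rw [show 2 * (k + 1) = 1 + 1 + 2 * k by ring, pow_add, pow_add, pow_one]
        calc i.1 * i.1 * i.1 ^ (2 * k) * w * (i.1 * i.1 * i.1 ^ (2 * k))⁻¹
            = i.1 * (i.1 * (i.1 ^ (2 * k) * w * (i.1 ^ (2 * k))⁻¹) * i.1⁻¹) * i.1⁻¹ := by group
          _ = w := by rw [ih, h4, h2]
    obtain ⟨k, hk⟩ := odd_orderOf (c.D_odd hu2 huH) i.2.1
    have h5 := h3 k
    have h6 : i.1 ^ (2 * k) = i.1⁻¹ := eq_inv_of_mul_eq_one_left (by rw [← pow_succ, ← hk, pow_orderOf_eq_one])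
    rw [h6, inv_inv] at h5
    have h7 : w * w = 1 := by
      have h8 : i.1⁻¹ * w * i.1 = w⁻¹ := by
        conv_lhs => rw [← h2]
        group
      rw [h8] at h5
      nth_rw 1 [← h5]
      exact inv_mul_cancel w
    have h9 := pow_odd_eq_one (c.D_odd hu2 huH) (mul_mem (inv_mem i.2.1) j.2.1) h7
    exact Subtype.ext (inv_mul_eq_one.1 h9)
  have hcard : Nat.card (↥c.H ⧸ c.C.subgroupOf c.H) ≤ Nat.card (Cfsg.invertedBy (c.D u) u) := by
    rw [c.card_inverted hu2 huH, ← c.relIndex_C]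
    exact le_rfl
  obtain ⟨i, hi⟩ := (hf.bijective_of_nat_card_le hcard).2 (QuotientGroup.mk (⟨d, hd⟩ : ↥c.H))
  rw [QuotientGroup.eq, Subgroup.mem_subgroupOf] at hi
  exact ⟨i.1, i.2, hi⟩

theorem inverted_pow (hu2 : orderOf u = 2) (huH : u ∉ c.H) {i : G} (hi : i ∈ Cfsg.invertedBy (c.D u) u) :
    i ^ (q - 1) = 1 := by
  have h := hi.2
  refine c.inverted_C_eq_one hu2 huH (c.pow_mem_C hi.1.1)
    (odd_orderOf (c.D_odd hu2 huH) (pow_mem hi.1 _)) ?_
  rw [← inv_pow, ← h, conj_pow, Invol.inv_eq_self hu2]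

theorem central_DC (hu2 : orderOf u = 2) (huH : u ∉ c.H) {d w : G} (hd : d ∈ c.D u) (hw : w ∈ c.D u)
    (hwC : w ∈ c.C) : d * w = w * d := by
  obtain ⟨i, hi, hid⟩ := c.exists_decomp hu2 huH hd.1
  have hx := c.commute_of_mem_C hu2 huH (mul_mem (inv_mem hi.1) hd) hid hw hwC
  suffices hiw : i * w = w * i by
    calc d * w = i * ((i⁻¹ * d) * w) := by group
      _ = (i * w) * (i⁻¹ * d) := by rw [hx]; group
      _ = w * d := by rw [hiw]; group
  have hi' := hi.2
  rw [Invol.inv_eq_self hu2] at hi'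
  have hm : i * w * i⁻¹ ∈ c.C := (Subgroup.mem_normalizer_iff.1 hi.1.1 _).1 hwC
  have h1 := c.centralizes_DC hu2 huH (mul_mem (mul_mem hi.1 hw) (inv_mem hi.1)) hm
  have h2 : i⁻¹ * w * i = i * w * i⁻¹ := by
    calc i⁻¹ * w * i = (u * i * u) * (u * w * u) * (u * i * u)⁻¹ := by
          rw [c.centralizes_DC hu2 huH hw hwC, hi', inv_inv]
      _ = u * (i * w * i⁻¹) * (u * u) * u⁻¹ := by
          rw [show (u * i * u) * (u * w * u) = u * i * (u * u) * w * u by group, Invol.mul_self_eq_one hu2]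
          group
      _ = _ := by rw [Invol.mul_self_eq_one hu2, mul_one, Invol.inv_eq_self hu2, h1]
  have h3 : Commute (i * i) w := by
    show i * i * w = w * (i * i)
    calc i * i * w = i * (i * w * i⁻¹) * i := by group
      _ = w * (i * i) := by rw [← h2]; group
  obtain ⟨k, hk⟩ := odd_orderOf (c.D_odd hu2 huH) hi.1
  have h4 : Commute ((i * i) ^ (k + 1)) w := h3.pow_left _
  rw [← pow_two, ← pow_mul, show 2 * (k + 1) = orderOf i + 1 by omega, pow_succ, pow_orderOf_eq_one,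
    one_mul] at h4
  exact h4.eq

theorem inverted_commute (hu2 : orderOf u = 2) (huH : u ∉ c.H) {i j : G}
    (hi : i ∈ Cfsg.invertedBy (c.D u) u) (hj : j ∈ Cfsg.invertedBy (c.D u) u) : i * j = j * i := by
  obtain ⟨k, hk, hkd⟩ := c.exists_decomp hu2 huH (mul_mem hi.1.1 hj.1.1)
  have hi' := hi.2
  have hj' := hj.2
  have hk' := hk.2
  rw [Invol.inv_eq_self hu2] at hi' hj' hk'
  set w := k⁻¹ * (i * j) with hw
  have hwD : w ∈ c.D u := mul_mem (inv_mem hk.1) (mul_mem hi.1 hj.1)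
  have huu := Invol.mul_self_eq_one hu2
  have h1 : w = k * (i⁻¹ * j⁻¹) := by
    calc w = u * w * u := (c.centralizes_DC hu2 huH hwD hkd).symm
      _ = u * k⁻¹ * u * (u * i * u) * (u * j * u) := by
          rw [show u * k⁻¹ * u * (u * i * u) * (u * j * u) = u * k⁻¹ * (u * u) * i * (u * u) * j * u by group,
            huu, hw]
          group
      _ = _ := by
          rw [hi', hj', show u * k⁻¹ * u = (u * k * u)⁻¹ by
            rw [mul_inv_rev, mul_inv_rev, Invol.inv_eq_self hu2, mul_assoc], hk', inv_inv, mul_assoc]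
  have h2 : i * j = j * i * (w * w) := by
    have e1 : i * j = k * w := by rw [hw]; group
    have e2 : j * i = w⁻¹ * k := by rw [h1]; group
    rw [e1, e2, show w⁻¹ * k * (w * w) = w⁻¹ * (k * w) * w by group,
      c.central_DC hu2 huH hk.1 hwD hkd]
    group
    rw [← c.central_DC hu2 huH hk.1 hwD hkd]
  have hzD : w * w ∈ c.D u := mul_mem hwD hwD
  have hzC : w * w ∈ c.C := mul_mem hkd hkd
  set z := w * w with hz
  have h3 : ∀ n, j ^ n * i * z ^ n = i * j ^ n := by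
    intro n
    induction n with
    | zero => simp
    | succ n ih =>
      have hzc : j * z ^ n = z ^ n * j := c.central_DC hu2 huH hj.1 (pow_mem hzD n) (pow_mem hzC n)
      calc j ^ (n + 1) * i * z ^ (n + 1) = j ^ n * (j * i * z) * z ^ n := by
            rw [pow_succ, pow_succ']; group
        _ = j ^ n * i * (j * z ^ n) := by rw [← h2]; group
        _ = j ^ n * i * z ^ n * j := by rw [hzc, ← mul_assoc]
        _ = i * j ^ (n + 1) := by rw [ih, pow_succ, mul_assoc]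
  have h4 := h3 (q - 1)
  rw [c.inverted_pow hu2 huH hj, one_mul, mul_one] at h4
  have h5 : z = 1 := eq_one_of_pow_coprime c.coprime_sub_add (mul_eq_left.1 h4)
    (c.pow_add_one_of_mem hu2 huH hzD hzC)
  rw [h2, h5, mul_one]

theorem D_comm (hu2 : orderOf u = 2) (huH : u ∉ c.H) {d d' : G} (hd : d ∈ c.D u) (hd' : d' ∈ c.D u) :
    d * d' = d' * d := by
  obtain ⟨i, hi, hid⟩ := c.exists_decomp hu2 huH hd.1
  obtain ⟨j, hj, hjd⟩ := c.exists_decomp hu2 huH hd'.1
  set v := i⁻¹ * d with hv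
  set w := j⁻¹ * d' with hw
  have hvD : v ∈ c.D u := mul_mem (inv_mem hi.1) hd
  have hwD : w ∈ c.D u := mul_mem (inv_mem hj.1) hd'
  have e1 : d = i * v := by rw [hv]; group
  have e2 : d' = j * w := by rw [hw]; group
  have hvC : v ∈ c.C := hid
  calc d * d' = i * (v * d') := by rw [e1, mul_assoc]
    _ = i * (d' * v) := by rw [c.central_DC hu2 huH hd' hvD hvC]
    _ = (i * j) * w * v := by rw [e2]; group
    _ = j * (i * w) * v := by rw [c.inverted_commute hu2 huH hi hj]; group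
    _ = j * (w * i) * v := by rw [c.central_DC hu2 huH hi.1 hwD hjd]
    _ = d' * d := by rw [e1, e2]; group

theorem mem_inverted_iff (hu2 : orderOf u = 2) (huH : u ∉ c.H) {d : G} :
    d ∈ Cfsg.invertedBy (c.D u) u ↔ d ∈ c.D u ∧ d ^ (q - 1) = 1 := by
  refine ⟨fun h => ⟨h.1, c.inverted_pow hu2 huH h⟩, fun h => ?_⟩
  obtain ⟨i, hi, hid⟩ := c.exists_decomp hu2 huH h.1.1
  have hwD := mul_mem (inv_mem hi.1) h.1
  have h1 : (i⁻¹ * d) ^ (q - 1) = 1 := by
    rw [Commute.mul_pow (c.D_comm hu2 huH (inv_mem hi.1) h.1), inv_pow, c.inverted_pow hu2 huH hi, h.2,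
      inv_one, one_mul]
  have h2 := eq_one_of_pow_coprime c.coprime_sub_add h1 (c.pow_add_one_of_mem hu2 huH hwD hid)
  rwa [← inv_mul_eq_one.1 h2]

/-- The part of order `q - 1` of the two-point stabilizer. -/
def T (hu2 : orderOf u = 2) (huH : u ∉ c.H) : Subgroup G where
  carrier := {d | d ∈ c.D u ∧ d ^ (q - 1) = 1}
  one_mem' := ⟨one_mem _, one_pow _⟩
  mul_mem' := fun {a b} ha hb => ⟨mul_mem ha.1 hb.1, by
    rw [Commute.mul_pow (c.D_comm hu2 huH ha.1 hb.1), ha.2, hb.2, one_mul]⟩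
  inv_mem' := fun {a} ha => ⟨inv_mem ha.1, by rw [inv_pow, ha.2, inv_one]⟩

theorem mem_T {hu2 : orderOf u = 2} {huH : u ∉ c.H} {d : G} :
    d ∈ c.T hu2 huH ↔ d ∈ c.D u ∧ d ^ (q - 1) = 1 := Iff.rfl

theorem card_T (hu2 : orderOf u = 2) (huH : u ∉ c.H) : Nat.card (c.T hu2 huH) = q - 1 := by
  rw [← c.card_inverted hu2 huH]
  exact Nat.card_congr (Equiv.subtypeEquivRight fun d => (c.mem_inverted_iff hu2 huH).symm)

theorem eq_one_of_commute_invol {t s : G} (ht : t ^ (q - 1) = 1) (hto : Odd (orderOf t))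
    (hs : orderOf s = 2) (hsC : s ∈ c.C) (h : t * s = s * t) : t = 1 := by
  have htC : t ∈ c.C := by
    rw [← c.centralizer_eq hs hsC, Subgroup.mem_centralizer_singleton_iff]; exact h
  have h1 : t ^ (q + 1) ∈ c.P := by
    refine (c.coe_mem_P (⟨t, htC⟩ ^ (q + 1))).2 ?_
    rw [map_pow, ← rightHom_eq_right, map_pow, rightHom_eq_right]
    exact pow_right _
  have h2 : Odd (Nat.card (Subgroup.zpowers t)) := by rwa [Nat.card_zpowers]
  exact eq_one_of_pow_coprime c.coprime_sub_add ht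
    (c.eq_one_of_mem_P h2 (Subgroup.npow_mem_zpowers t _) h1)

theorem T_cyclic (hu2 : orderOf u = 2) (huH : u ∉ c.H) : IsCyclic (c.T hu2 huH) := by
  open scoped IsMulCommutative in
  let φ : ↥(c.T hu2 huH) →* MulAut (Subgroup.center ↥c.C) := MonoidHom.mk'
    (fun t => Subgroup.centerCongr (c.conjC ⟨t.1, t.2.1.1⟩)) fun s t => MulEquiv.ext fun z => by
      refine Subtype.ext (Subtype.ext ?_)
      show ((s : G) * (t : G)) * (z : ↥c.C) * ((s : G) * (t : G))⁻¹ =
        (s : G) * ((t : G) * (z : ↥c.C) * (t : G)⁻¹) * (s : G)⁻¹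
      group
  have : Nontrivial (Subgroup.center ↥c.C) := by
    refine ⟨⟨⟨⟨c.x, c.x_mem⟩, Subgroup.mem_center_iff.2 fun g => Subtype.ext ?_⟩, 1, fun h => ?_⟩⟩
    · exact ((c.invol_central (Invol.mul_self_eq_one c.hx) c.x_mem).2 g g.2).symm
    · exact Invol.ne_one c.hx (congrArg (fun z : Subgroup.center ↥c.C => ((z : ↥c.C) : G)) h)
  refine Core.IsFPF.isCyclic_of_comm (φ := φ) (fun t ht z hz => ?_)
    ⟨⟨fun s t => Subtype.ext (c.D_comm hu2 huH s.2.1 t.2.1)⟩⟩
  by_contra hne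
  have hzz : ((z : ↥c.C) : G) * (z : ↥c.C) = 1 := by
    have h1 := mul_self_of_centralizes (z := c.e z.1) (fun a => by
      rw [← c.e.apply_symm_apply (inl a), ← map_mul, ← map_mul, Subgroup.mem_center_iff.1 z.2])
    rw [← map_mul, MulEquiv.map_eq_one_iff] at h1
    exact congrArg Subtype.val h1
  have hz1 : ((z : ↥c.C) : G) ≠ 1 := fun h => hne (Subtype.ext (Subtype.ext h))
  refine ht (Subtype.ext (c.eq_one_of_commute_invol t.2.2 (odd_orderOf (c.D_odd hu2 huH) t.2.1)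
    (orderOf_eq_prime (by rw [pow_two, hzz]) hz1) z.1.2 ?_))
  have h2 : (t : G) * (z : ↥c.C) * (t : G)⁻¹ = (z : ↥c.C) :=
    congrArg (fun w : Subgroup.center ↥c.C => ((w : ↥c.C) : G)) hz
  exact mul_inv_eq_iff_eq_mul.1 h2

end Ctx

end Cfsg.Agent.PGU3Rec
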