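import Cfsg.Agent.PGU3Rec.Model
import Cfsg.Agent.AutPSU.Torus

/-! # A Sylow two-subgroup of PSU₃ and the split torus in its normalizer -/

set_option autoImplicit false

namespace Cfsg.Agent.PGU3Rec

open Matrix Cfsg.Agent.AutPSU Cfsg.Agent.PSU3Sylow Classical.Herm

variable {F : Type*} [Field F] [CharP F 2] [Fintype F] {σ : F →+* F} {q : ℕ} (hu : UCtx σ q)
include hu

omit [CharP F 2] in
theorem trace_diag {e f b : Vn 3 F} (H : HP σ e f) (hb1 : hB 3 σ b b = 1)
    (hline : ∀ x, InW σ e f x → ∃ c : F, x = c • b) (M : Matrix (Fin 3) (Fin 3) F) {l m : F}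
    (he : M *ᵥ e = l • e) (hf : M *ᵥ f = m • f) (hb : M *ᵥ b = b) : M.trace = 1 + l + m := by
  classical
  let U : Matrix (Fin 3) (Fin 2) F := Matrix.of fun i j => ![e i, f i] j
  let W : Matrix (Fin 2) (Fin 3) F := Matrix.of fun j i => ![(l - 1) * σ (f i), (m - 1) * σ (e i)] j
  have hM : M = 1 + U * W := by
    refine Matrix.ext_of_mulVec_single fun i => ?_
    have hv : ∀ v, M *ᵥ v = v + (hB 3 σ f v * (l - 1)) • e + (hB 3 σ e v * (m - 1)) • f := fun v => by
      obtain ⟨c, hc⟩ := hline _ (H.proj_mem hu v)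
      have hpf : M *ᵥ proj σ e f v = proj σ e f v := by rw [hc, Matrix.mulVec_smul, hb]
      conv_lhs => rw [eq_proj (σ := σ) e f v, Matrix.mulVec_add, Matrix.mulVec_add, Matrix.mulVec_smul,
        Matrix.mulVec_smul, he, hf, hpf, proj_apply, smul_smul, smul_smul]
      match_scalars <;> ring
    rw [hv, Matrix.add_mulVec, Matrix.one_mulVec]
    funext j
    simp [U, W, Matrix.mul_apply, Fin.sum_univ_two, Classical.hermB_apply, Pi.single_apply,
      Matrix.mulVec_single_one]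
    ring
  have hWU : W * U = Matrix.of ![![(l - 1) * hB 3 σ f e, (l - 1) * hB 3 σ f f],
      ![(m - 1) * hB 3 σ e e, (m - 1) * hB 3 σ e f]] := by
    ext a b
    fin_cases a <;> fin_cases b <;>
      simp [U, W, Matrix.mul_apply, Classical.hermB_apply, Finset.mul_sum, mul_assoc]
  rw [hM, Matrix.trace_add, Matrix.trace_one, Matrix.trace_mul_comm, hWU, Matrix.trace_fin_two]
  simp [H.fe hu, H.ef, H.ee, H.ff]
  ring

/-- A Sylow two-subgroup of PSU₃ with the split torus in its normalizer. -/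
theorem exists_torus :
    ∃ S : Subgroup (Cfsg.PSU 3 F q), Nat.card S = q ^ 3 ∧ ∀ l : F, σ l = l → l ≠ 0 →
      ∃ s : Su 3 F q, mkU s ∈ Subgroup.normalizer (S : Set (Cfsg.PSU 3 F q)) ∧
        (mkU s : Cfsg.PSU 3 F q) ^ (q - 1) = 1 ∧ (mat s).trace = 1 + l + l⁻¹ := by
  have : Fact (Nat.Prime 2) := ⟨Nat.prime_two⟩
  obtain ⟨e, f, he, hf, hef, -⟩ := exists_fixed_pair hu 2 (le_refl 3)
  have H : HP σ e f := ⟨he, hf, hef⟩
  obtain ⟨b, hb1, hbW, hline⟩ := line_of_three hu rfl H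
  have hW : ∀ x : F, InW σ e f (x • b) := fun x => hbW.smul x
  have hb0 : b ≠ 0 := fun h => by simp [h] at hb1
  have hd : ∀ a : Heis hu, a.d + σ a.d = -hB 3 σ (a.x • b) (a.x • b) := fun a => by
    rw [smul_self (hu.isHerm 3), hb1, mul_one, a.cond, CharTwo.neg_eq]
  have hE : ∀ a : Heis hu, IsE σ e (a.x • b) a.d := fun a => H.isE hu (hW _) (hd a)
  let φ : Heis hu →* Cfsg.PSU 3 F q := MonoidHom.mk' (fun a => mkU (eS hu e (a.x • b) a.d)) fun a a' => by
    show _ = mkU _ * mkU _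
    rw [← map_mul, eS_mul hu (hE a) (hE a'), ← add_smul, CharTwo.sub_eq_add]
    simp only [map_smulₛₗ, LinearMap.smul_apply, hb1, smul_eq_mul, RingHom.id_apply, mul_one,
      Heis.mul_x, Heis.mul_d]
    rw [mul_comm a'.x]
  have hinj : Function.Injective φ := fun a a' hab => by
    obtain ⟨h1, h2⟩ := eS_mkU_inj hu 2 (le_refl 3) H (hW _) (hW _) (hd a) (hd a') hab
    exact Heis.ext (smul_left_injective F hb0 h1) h2
  refine ⟨φ.range, by rw [← Nat.card_congr (MonoidHom.ofInjective hinj).toEquiv, Heis.card_eq], fun l hl hl0 => ?_⟩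
  obtain ⟨g, hge, hgf, hgW, hgd⟩ := H.exists_dil hu hl0
  rw [hl, mul_inv_cancel₀ hl0] at hgd
  rw [hl] at hgf
  obtain ⟨s, hs⟩ := exists_su_of_gu hu g hgd
  have hse : mat s *ᵥ e = l • e := by rw [hs, hge]
  have hsf : mat s *ᵥ f = l⁻¹ • f := by rw [hs, hgf]
  have hsb : mat s *ᵥ b = b := by rw [hs, hgW b hbW]
  refine ⟨s, ?_, ?_, trace_diag hu H hb1 hline _ hse hsf hsb⟩
  · have hmem : ∀ a ∈ φ.range, mkU s * a * (mkU s)⁻¹ ∈ φ.range := by
      rintro _ ⟨a, rfl⟩
      refine ⟨⟨σ l * a.x, l * σ l * a.d, ?_⟩, ?_⟩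
      · rw [map_mul, map_mul, map_mul, hu.invol]
        linear_combination l * σ l * a.cond
      · show mkU (eS hu e ((σ l * a.x) • b) (l * σ l * a.d)) = mkU s * mkU (eS hu e (a.x • b) a.d) * (mkU s)⁻¹
        rw [← map_inv, ← map_mul, ← map_mul, suConj hu s (hE a), hse, Matrix.mulVec_smul, hsb,
          eS_smul hu (hE a), smul_smul]
    haveI : Finite (Cfsg.PSU 3 F q) := inferInstance
    refine Subgroup.mem_normalizer_iff.2 fun z => ⟨hmem z, fun hz => ?_⟩
    obtain ⟨w, hw⟩ := Finite.surjective_of_injective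
      (f := fun a : φ.range => (⟨mkU s * a * (mkU s)⁻¹, hmem _ a.2⟩ : φ.range))
      (fun a a' h => Subtype.ext (by simpa using congrArg Subtype.val h)) ⟨_, hz⟩
    have h2 : mkU s * (w : Cfsg.PSU 3 F q) * (mkU s)⁻¹ = mkU s * z * (mkU s)⁻¹ := congrArg Subtype.val hw
    rw [mul_left_inj, mul_right_inj] at h2
    exact h2 ▸ w.2
  · have hpow : ∀ k : ℕ, mat (s ^ k) *ᵥ e = l ^ k • e ∧ mat (s ^ k) *ᵥ f = (l⁻¹) ^ k • f ∧
        mat (s ^ k) *ᵥ b = b := fun k => by
      induction k with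
      | zero => simp [mat_one_mulVec]
      | succ k ih =>
        rw [pow_succ]
        refine ⟨?_, ?_, ?_⟩
        · rw [mat_mul_mulVec, hse, Matrix.mulVec_smul, ih.1, smul_smul, ← pow_succ']
        · rw [mat_mul_mulVec, hsf, Matrix.mulVec_smul, ih.2.1, smul_smul, ← pow_succ']
        · rw [mat_mul_mulVec, hsb, ih.2.2]
    have hl1 : l ^ (q - 1) = 1 := by
      have h1 := hu.pow l
      rw [hl] at h1
      have hq1 := hu.one_lt
      refine mul_left_cancel₀ hl0 ?_
      rw [mul_one, ← pow_succ', show q - 1 + 1 = q by omega, ← h1]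
    have h1 : s ^ (q - 1) = 1 := by
      refine su_ext_mulVec fun v => ?_
      obtain ⟨a1, a2, a3⟩ := hpow (q - 1)
      obtain ⟨c, hc⟩ := hline _ (H.proj_mem hu v)
      rw [mat_one_mulVec, eq_proj (σ := σ) e f v, hc, Matrix.mulVec_add, Matrix.mulVec_add, Matrix.mulVec_smul,
        Matrix.mulVec_smul, Matrix.mulVec_smul, a1, a2, a3, inv_pow, hl1, inv_one, one_smul, one_smul]
    rw [← map_pow, h1, map_one]

end Cfsg.Agent.PGU3Rec
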