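import Cfsg.Agent.PGU3Rec.TwoTrans
import Cfsg.Agent.PGU3Rec.Torus
import Cfsg.Agent.S1136
import Cfsg.Agent.S1163
import Cfsg.Agent.PrimeGraphCIT.PSL
import Cfsg.Agent.Leech.UnitaryIso
import Cfsg.Agent.Classical.UnitaryThreeTwo

/-! # Identification with PGU₃ -/

set_option autoImplicit false

namespace Cfsg.Agent.PGU3Rec

open Cfsg.Agent.AutPSU Cfsg.Agent.PSU3Sylow Classical.Herm SemidirectProduct

variable {F : Type*} [Field F] [CharP F 2] {σ : F →+* F} {q : ℕ} {hu : UCtx σ q}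

theorem two_part_eq {a b m n : ℕ} (hm : Odd m) (hn : Odd n) (h : 2 ^ a * m = 2 ^ b * n) : a = b := by
  have key : ∀ {a b m n : ℕ}, Odd m → 2 ^ a * m = 2 ^ b * n → b ≤ a := fun {a b m n} hm h => by
    have h2 : Nat.Coprime (2 ^ b) m := (Nat.coprime_two_left.2 hm).pow_left b
    exact (Nat.pow_dvd_pow_iff_le_right (le_refl 2)).1 (h2.dvd_of_dvd_mul_right ⟨n, h⟩)
  exact le_antisymm (key hn h.symm) (key hm h)

variable [Fintype F]

theorem sq_eq_one_of_fix (hu : UCtx σ q) {τ : F ≃+* F} (hK : ∀ d, σ d = d → τ d = d) : τ ^ 2 = 1 := by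
  obtain ⟨μ, hμ⟩ := exists_moved hu.toIsInvol
  refine eq_of_agree hu (fun d hd => by rw [pow_two, RingAut.mul_apply, hK d hd, hK d hd]) hμ ?_
  have h3 : τ μ * σ (τ μ) = μ * σ μ := by
    rw [← hu.comm, ← map_mul]
    exact hK _ (by rw [map_mul, hu.invol, mul_comm])
  have h4 : τ μ + σ (τ μ) = μ + σ μ := by
    rw [← hu.comm, ← map_add]
    exact hK _ (by rw [map_add, hu.invol, add_comm])
  have h5 : (τ μ + μ) * (τ μ + σ μ) = 0 := by
    linear_combination τ μ * h4.symm + h3.symm * (1 : F) + CharTwo.add_self_eq_zero (τ μ * τ μ)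
      + CharTwo.add_self_eq_zero (τ μ * σ (τ μ))
  rw [pow_two, RingAut.mul_apply]
  rcases mul_eq_zero.1 h5 with h6 | h6 <;> rw [CharTwo.add_eq_zero] at h6
  · rw [h6, h6]
  · rw [h6, hu.comm, h6, hu.invol]

variable {G : Type*} [Group G] [Finite G]

namespace Ctx

variable (c : Ctx hu G)

theorem exists_u : ∃ u : G, orderOf u = 2 ∧ u ∉ c.H := by
  obtain ⟨g, hg⟩ : ∃ g, g ∉ c.H := by
    by_contra! h
    exact c.H_ne_top (eq_top_iff.2 fun z _ => h z)
  obtain ⟨w, hw, hwb, -⟩ := c.exists_swap (p := c.base) (r := g • c.base)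
    (fun h => hg (c.mem_H_iff_smul.2 h.symm))
  exact ⟨w, hw, fun h => hg (c.mem_H_iff_smul.2 (hwb.symm.trans (c.mem_H_iff_smul.1 h)))⟩

theorem stab_base : MulAction.stabilizer G c.base = c.H := by
  ext g; rw [MulAction.mem_stabilizer_iff, c.mem_H_iff_smul]

theorem centralizes_P {g : G} (h : ∀ p ∈ c.P, g * p = p * g) : g ∈ c.C ∧ g * g = 1 := by
  have hgC : g ∈ c.C := Subgroup.mem_centralizer_singleton_iff.2
    (h c.x (c.invol_central (Invol.mul_self_eq_one c.hx) c.x_mem).1)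
  have h1 := mul_self_of_centralizes (z := c.e ⟨g, hgC⟩) (fun a => by
    rw [← c.e.apply_symm_apply (inl a), ← map_mul, ← map_mul]
    refine congrArg c.e (Subtype.ext (h _ ?_))
    exact (c.coe_mem_P _).2 (by rw [c.e.apply_symm_apply]; simp))
  rw [← map_mul, MulEquiv.map_eq_one_iff] at h1
  exact ⟨hgC, congrArg Subtype.val h1⟩

theorem faithful : FaithfulSMul G (G ⧸ c.H) := by
  refine ⟨fun {a b} h => ?_⟩
  obtain ⟨u, hu2, huH⟩ := c.exists_u
  have key : ∀ g : G, (∀ r : G ⧸ c.H, g • r = r) → g = 1 := fun g hg => by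
    have hgD : g ∈ c.D u := Subgroup.mem_inf.2
      ⟨c.mem_H_iff_smul.2 (hg _), MulAction.mem_stabilizer_iff.2 (hg _)⟩
    have hc : ∀ p ∈ c.P, g * p = p * g := fun p hp => by
      have hP : g * p * g⁻¹ * p⁻¹ ∈ c.P := mul_mem (c.conj_mem_P hgD.1 hp) (inv_mem hp)
      have hfix : ∀ r : G ⧸ c.H, (g * p * g⁻¹ * p⁻¹) • r = r := fun r => by
        have hgi : ∀ r : G ⧸ c.H, g⁻¹ • r = r := fun r => inv_smul_eq_iff.2 (hg r).symm
        rw [mul_smul, mul_smul, mul_smul, hgi, smul_inv_smul, hg]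
      have h1 := c.eq_one_of_mem_P (c.D_odd hu2 huH) (Subgroup.mem_inf.2
        ⟨c.mem_H_iff_smul.2 (hfix _), MulAction.mem_stabilizer_iff.2 (hfix _)⟩ : _ ∈ c.D u) hP
      calc g * p = (g * p * g⁻¹ * p⁻¹) * (p * g) := by group
        _ = p * g := by rw [h1, one_mul]
    exact pow_odd_eq_one (c.D_odd hu2 huH) hgD (c.centralizes_P hc).2
  have h1 := key (b⁻¹ * a) fun r => by rw [mul_smul, h, inv_smul_smul]
  exact (inv_mul_eq_one.1 h1).symm

theorem setup {u : G} (hu2 : orderOf u = 2) (huH : u ∉ c.H) :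
    Cfsg.IsRankOneSetup G (G ⧸ c.H) c.base u c.P where
  two_transitive := c.two_transitive
  mul_self := Invol.mul_self_eq_one hu2
  ne_one := Invol.ne_one hu2
  not_mem := by rw [c.stab_base]; exact huH
  le := by rw [c.stab_base]; exact c.P_le.trans c.C_le
  conj_mem := fun h hh x hx => c.conj_mem_P (by rwa [c.stab_base] at hh) hx
  inf_eq_bot := (Subgroup.eq_bot_iff_forall _).2 fun g hg =>
    c.eq_one_of_mem_P (c.D_odd hu2 huH) (Subgroup.mem_inf.2 ⟨c.C_le (c.P_le hg.1), hg.2⟩ : g ∈ c.D u) hg.1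
  sup_eq := by
    rw [c.stab_base]
    refine le_antisymm (sup_le (c.P_le.trans c.C_le) inf_le_left) fun g hg => ?_
    obtain ⟨p, hp, d, hd, rfl⟩ := c.exists_PD hu2 huH hg
    exact Subgroup.mul_mem_sup hp hd
  even_card := by rw [c.card_P]; exact (Nat.even_pow).2 ⟨even_q hu, by norm_num⟩
  odd_card := by rw [c.stab_base]; exact c.D_odd hu2 huH

include c in
theorem two_commuting : ∃ x y : G, x ≠ 1 ∧ y ≠ 1 ∧ x ≠ y ∧ x * x = 1 ∧ y * y = 1 ∧ x * y = y * x := by
  have h : 1 < Nat.card c.Z := by rw [c.card_Z]; have := c.hq; omega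
  have : Nontrivial c.Z := Finite.one_lt_card_iff_nontrivial.1 h
  obtain ⟨s, hs⟩ := exists_ne (⟨c.x, c.hx, c.x_mem⟩ : c.Z)
  exact ⟨c.x, s.1, Invol.ne_one c.hx, Invol.ne_one s.2.1, fun e => hs (Subtype.ext e.symm),
    Invol.mul_self_eq_one c.hx, Invol.mul_self_eq_one s.2.1,
    ((c.invol_central (Invol.mul_self_eq_one s.2.1) s.2.2).2 c.x c.x_mem).symm⟩

theorem card_points : Nat.card (G ⧸ c.H) = q ^ 3 + 1 := by
  obtain ⟨u, hu2, huH⟩ := c.exists_u
  classical
  have hne : u • c.base ≠ c.base := fun h => huH (c.mem_H_iff_smul.2 h)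
  let f : ↥c.P → {r : G ⧸ c.H // r ≠ c.base} := fun p => ⟨(p : G) • u • c.base, fun h => hne
    (MulAction.injective (p : G) (h.trans (c.mem_H_iff_smul.1 (c.C_le (c.P_le p.2))).symm))⟩
  have hf : Function.Bijective f := by
    refine ⟨fun p p' h => ?_, fun r => ?_⟩
    · have h' : (p : G) • u • c.base = (p' : G) • u • c.base := congrArg Subtype.val h
      have h1 := c.eq_one_of_mem_P (c.D_odd hu2 huH) (g := (p' : G)⁻¹ * p) (Subgroup.mem_inf.2
        ⟨c.C_le (c.P_le (mul_mem (inv_mem p'.2) p.2)), MulAction.mem_stabilizer_iff.2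
          (by rw [mul_smul, h', inv_smul_smul])⟩ : _ ∈ c.D u) (mul_mem (inv_mem p'.2) p.2)
      exact Subtype.ext (inv_mul_eq_one.1 h1).symm
    · obtain ⟨g, hg, hgr⟩ := c.transitive hu2 huH r.2
      obtain ⟨p, hp, d, hd, rfl⟩ := c.exists_PD hu2 huH hg
      refine ⟨⟨p, hp⟩, Subtype.ext ?_⟩
      show p • u • c.base = r.1
      rw [← hgr, mul_smul, MulAction.mem_stabilizer_iff.1 hd.2]
  haveI := Fintype.ofFinite (G ⧸ c.H)
  have h2 := Nat.card_congr (Equiv.ofBijective f hf)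
  rw [c.card_P, Nat.card_eq_fintype_card, Fintype.card_subtype_compl, Fintype.card_subtype_eq] at h2
  rw [Nat.card_eq_fintype_card]
  have : 0 < Fintype.card (G ⧸ c.H) := Fintype.card_pos
  omega

include c in
theorem card_G : Nat.card G = (q ^ 3 + 1) * (q ^ 3 * (q + 1) * (q - 1)) := by
  rw [← c.H.index_mul_card, c.card_H, show c.H.index = Nat.card (G ⧸ c.H) from rfl, c.card_points]

include c in
theorem exists_L : ∃ L : Subgroup G, L.Normal ∧ Odd L.index ∧ Nonempty (↥L ≃* Cfsg.PSU 3 F q) := by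
  obtain ⟨u, hu2, huH⟩ := c.exists_u
  haveI := c.faithful
  obtain ⟨L, hLn, hLo, hL⟩ := S1136.result (c.setup hu2 huH) c.two_commuting
  refine ⟨L, hLn, hLo, ?_⟩
  obtain ⟨k, -, hk⟩ := FiniteField.card F 2
  rw [hu_card hu] at hk
  obtain ⟨b, -, hb⟩ := (Nat.dvd_prime_pow Nat.prime_two).1 (Dvd.intro q ((pow_two q).symm.trans hk))
  have hb1 : 2 ≤ b := by
    by_contra h
    have h1 := c.hq
    rw [hb] at h1
    have h2 : (2 : ℕ) ^ b ≤ 2 ^ 1 := Nat.pow_le_pow_right (by norm_num) (by omega)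
    omega
  have hGL : L.index * Nat.card L = (q ^ 3 + 1) * (q ^ 3 * (q + 1) * (q - 1)) := by
    rw [L.index_mul_card, c.card_G]
  have hoddq : ∀ k : ℕ, Odd ((q ^ 3 + 1) * ((q + 1) * (q - 1)) * k) ↔ Odd k := fun k => by
    have h1 : Odd ((q ^ 3 + 1) * ((q + 1) * (q - 1))) :=
      (((Nat.even_pow).2 ⟨even_q hu, by norm_num⟩).add_one).mul ((even_q hu).add_one.mul c.odd_sub)
    exact ⟨fun h => (Nat.odd_mul.1 h).2, fun h => h1.mul h⟩
  have htp : ∀ (a m : ℕ), Odd m → Nat.card L = 2 ^ a * m → a = 3 * b := fun a m hm h => by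
    rw [h] at hGL
    refine two_part_eq (m := L.index * m) (n := (q ^ 3 + 1) * ((q + 1) * (q - 1)))
      (hLo.mul hm) (by simpa using (hoddq 1).2 odd_one) ?_
    rw [show (2 : ℕ) ^ (3 * b) = q ^ 3 by rw [hb, ← pow_mul, mul_comm]]
    calc 2 ^ a * (L.index * m) = L.index * (2 ^ a * m) := by ring
      _ = _ := by rw [hGL]; ring
  have hdvd : Nat.card L ∣ (q ^ 3 + 1) * (q ^ 3 * (q + 1) * (q - 1)) := Dvd.intro_left _ hGL
  rcases hL with ⟨F', iF, iF2, ⟨n, hn, hF'⟩, ⟨φ⟩⟩ | hSz | ⟨F', iF, iF2, n, hn, hF', ⟨φ⟩⟩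
  · exfalso
    haveI : CharP F' 2 := PSU3Sylow.charTwo hF'
    have hcard := (Nat.card_congr φ.toEquiv).trans (PrimeGraphCIT.card_psl_even (F := F'))
    rw [hF'] at hcard
    have h2n : Even (2 ^ n) := (Nat.even_pow).2 ⟨even_two, by omega⟩
    have hne := htp n _ ((Nat.Even.sub_odd (Nat.one_le_two_pow) h2n odd_one).mul h2n.add_one) hcard
    subst hne
    rw [hcard, show (2 : ℕ) ^ (3 * b) = q ^ 3 by rw [hb, ← pow_mul, mul_comm]] at hdvd
    have hq := c.hq
    have h1 : (q ^ 3 - 1) * (q ^ 3 + 1) ∣ (q ^ 3 + 1) * ((q + 1) * (q - 1)) := by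
      refine Nat.dvd_of_mul_dvd_mul_left (pow_pos (by omega : 0 < q) 3) ?_
      refine hdvd.trans (dvd_of_eq ?_)
      ring
    rw [mul_comm (q ^ 3 - 1)] at h1
    have h2 := Nat.le_of_dvd (Nat.mul_pos (by omega) (by omega)) (Nat.dvd_of_mul_dvd_mul_left (Nat.succ_pos _) h1)
    obtain ⟨r, rfl⟩ : ∃ r, q = r + 1 := ⟨q - 1, by omega⟩
    have h3 : (r + 1) ^ 3 = (r + 1 + 1) * r + (r + 1) * (r + 1) * r + 1 := by ring
    have h4 : 0 < (r + 1) * (r + 1) * r := Nat.mul_pos (Nat.mul_pos (by omega) (by omega)) (by omega)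
    simp only [Nat.add_sub_cancel] at h2
    omega
  · exfalso
    obtain ⟨F', iF, iF2, m, hm, hF', ⟨φ⟩⟩ := hSz
    have hcard := (Nat.card_congr φ.toEquiv).trans (S1163.result hm hF').1
    set a := 2 * m + 1 with ha
    have h2a : Even (2 ^ a) := (Nat.even_pow).2 ⟨even_two, by omega⟩
    rw [mul_assoc, ← pow_mul] at hcard
    have hne := htp (a * 2) _ ((Nat.Even.sub_odd (Nat.one_le_two_pow) h2a odd_one).mul
      (((Nat.even_pow).2 ⟨h2a, two_ne_zero⟩).add_one)) (by rw [hcard, ← pow_mul])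
    obtain ⟨k, rfl⟩ : ∃ k, b = 2 * k := ⟨b / 2, by omega⟩
    have hak : a = 3 * k := by omega
    rw [hcard, hak, show (2 : ℕ) ^ (3 * k * 2) = q ^ 3 by rw [hb, ← pow_mul]; congr 1; ring] at hdvd
    have hq3 : (2 ^ (3 * k)) ^ 2 = q ^ 3 := by rw [hb, ← pow_mul, ← pow_mul]; congr 1; ring
    rw [mul_assoc] at hdvd
    have hq := c.hq
    have h1 : (2 ^ (3 * k) - 1) * (q ^ 3 + 1) ∣ (q ^ 3 + 1) * ((q + 1) * (q - 1)) := by
      refine Nat.dvd_of_mul_dvd_mul_left (pow_pos (by omega : 0 < q) 3) ?_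
      refine hdvd.trans (dvd_of_eq ?_)
      ring
    rw [mul_comm (2 ^ (3 * k) - 1)] at h1
    have h2 := Nat.dvd_of_mul_dvd_mul_left (Nat.succ_pos _) h1
    set A := 2 ^ k with hA
    have hA2 : 2 ≤ A := by
      calc (2 : ℕ) = 2 ^ 1 := (pow_one 2).symm
        _ ≤ A := Nat.pow_le_pow_right (by norm_num) (by omega)
    have e1 : (2 : ℕ) ^ (3 * k) = A ^ 3 := by rw [hA, ← pow_mul, mul_comm]
    have e2 : q = A ^ 2 := by rw [hA, hb, ← pow_mul, mul_comm 2 k]
    rw [e1, e2] at h2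
    obtain ⟨r, hr⟩ : ∃ r, A = r + 2 := ⟨A - 2, by omega⟩
    rw [hr] at h2
    have e3 : ((r + 2) ^ 2 + 1) * ((r + 2) ^ 2 - 1) = ((r + 2) ^ 3 - 1) * (r + 2) + (r + 1) := by
      have : 1 ≤ (r + 2) ^ 2 := Nat.one_le_pow _ _ (by omega)
      have : 1 ≤ (r + 2) ^ 3 := Nat.one_le_pow _ _ (by omega)
      zify [*]
      ring
    rw [e3] at h2
    have h3 := Nat.le_of_dvd (Nat.succ_pos r) ((Nat.dvd_add_right (dvd_mul_right _ _)).1 h2)
    have h4 : r + 2 < (r + 2) ^ 3 := by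
      calc r + 2 = (r + 2) ^ 1 := (pow_one _).symm
        _ < (r + 2) ^ 3 := Nat.pow_lt_pow_right (by omega) (by norm_num)
    omega
  · have hF2 : Fintype.card F' = (2 ^ n) ^ 2 := hF'
    have hform := Leech.Model.card_PSU_mul (n := 3) hF2 (by norm_num)
    rw [← Nat.card_congr φ.toEquiv] at hform
    simp [Finset.prod_range_succ, Nat.even_iff] at hform
    have h2n : Even (2 ^ n) := (Nat.even_pow).2 ⟨even_two, by omega⟩
    have hodd : Odd ((2 ^ n + 1) * ((2 ^ n) ^ 2 - 1) * ((2 ^ n) ^ 3 + 1)) :=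
      ((h2n.add_one).mul (Nat.Even.sub_odd (Nat.one_le_pow _ _ (Nat.two_pow_pos n))
        ((Nat.even_pow).2 ⟨h2n, two_ne_zero⟩) odd_one)).mul (((Nat.even_pow).2 ⟨h2n, three_ne_zero⟩).add_one)
    have hnb : n = b := by
      have h3 := hform
      have hgo : Odd ((2 ^ n + 1) * Nat.gcd 3 (2 ^ n + 1)) :=
        h2n.add_one.mul (h2n.add_one.of_dvd_nat (Nat.gcd_dvd_right _ _))
      have := two_part_eq (a := n * 3) (b := 3 * b)
        (m := L.index * ((2 ^ n + 1) * ((2 ^ n) ^ 2 - 1) * ((2 ^ n) ^ 3 + 1)))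
        (n := (q ^ 3 + 1) * ((q + 1) * (q - 1)) * ((2 ^ n + 1) * Nat.gcd 3 (2 ^ n + 1)))
        (hLo.mul hodd) ((hoddq _).2 hgo) (by
          rw [show (2 : ℕ) ^ (3 * b) = q ^ 3 by rw [hb, ← pow_mul, mul_comm], pow_mul]
          calc (2 ^ n) ^ 3 * (L.index * ((2 ^ n + 1) * ((2 ^ n) ^ 2 - 1) * ((2 ^ n) ^ 3 + 1)))
              = L.index * ((2 ^ n + 1) * (Nat.gcd 3 (2 ^ n + 1) * Nat.card L)) := by rw [hform]; ring
            _ = (L.index * Nat.card L) * ((2 ^ n + 1) * Nat.gcd 3 (2 ^ n + 1)) := by ring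
            _ = _ := by rw [hGL]; ring)
      omega
    subst hnb
    rw [← hb] at hF' φ
    have e : F' ≃+* F := FiniteField.ringEquivOfCardEq (hF'.trans (hu_card hu).symm)
    obtain ⟨ψ⟩ := Classical.U32.psu_congr (n := 3) (q := q) e
    exact ⟨φ.trans ψ⟩

include c in
/-- The identification. -/
theorem iso : Nonempty (G ≃* ↥(Cfsg.GU 3 F q) ⧸ Subgroup.center ↥(Cfsg.GU 3 F q)) := by
  classical
  haveI : Fact (Nat.Prime 2) := ⟨Nat.prime_two⟩
  have hs : ¬ (3 = 3 ∧ q = 2) := fun h => by have := c.hq; omega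
  obtain ⟨u, hu2, huH⟩ := c.exists_u
  obtain ⟨L, hLn, hLo, ⟨e₀⟩⟩ := c.exists_L
  obtain ⟨S, hS, hT⟩ := exists_torus hu
  have hPL : c.P ≤ L := fun p hp => by
    rw [← QuotientGroup.eq_one_iff]
    obtain ⟨k, hk⟩ := c.isPGroup_P ⟨p, hp⟩
    have hk' : p ^ 2 ^ k = 1 := congrArg Subtype.val hk
    refine eq_one_of_pow_coprime (m := 2 ^ k) (n := L.index) ((Nat.coprime_two_left.2 hLo).pow_left k) ?_
      pow_card_eq_one'
    rw [← QuotientGroup.mk_pow, hk', QuotientGroup.mk_one]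
  have hinvol : ∀ w : G, orderOf w = 2 → w ∈ L := fun w hw => by
    rw [← QuotientGroup.eq_one_iff]
    refine eq_one_of_pow_coprime (m := 2) (n := L.index) (Nat.coprime_two_left.2 hLo) ?_ pow_card_eq_one'
    rw [← QuotientGroup.mk_pow, pow_two, Invol.mul_self_eq_one hw, QuotientGroup.mk_one]
  let P' : Subgroup (Cfsg.PSU 3 F q) := (c.P.subgroupOf L).map e₀.toMonoidHom
  have hP' : Nat.card P' = q ^ 3 := by
    rw [Subgroup.card_map_of_injective (f := e₀.toMonoidHom) e₀.injective,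
      Nat.card_congr (Subgroup.subgroupOfEquivOfLe hPL).toEquiv, c.card_P]
  have hidx : ∀ U : Subgroup (Cfsg.PSU 3 F q), Nat.card U = q ^ 3 → IsPGroup 2 U ∧ ¬ 2 ∣ U.index := fun U hU => by
    obtain ⟨m, hm⟩ := IsPGroup.iff_card.1 c.isPGroup_P
    rw [c.card_P] at hm
    refine ⟨IsPGroup.of_card (hU.trans hm), fun hd => ?_⟩
    have h1 := U.index_mul_card
    rw [hU, ← Nat.card_congr e₀.toEquiv] at h1
    have h2 : L.index * (U.index * q ^ 3) = (q ^ 3 + 1) * (q ^ 3 * (q + 1) * (q - 1)) := by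
      rw [h1, L.index_mul_card, c.card_G]
    have h3 : L.index * U.index = (q ^ 3 + 1) * ((q + 1) * (q - 1)) :=
      Nat.eq_of_mul_eq_mul_left (pow_pos (by have := c.hq; omega : 0 < q) 3)
        (calc q ^ 3 * (L.index * U.index) = L.index * (U.index * q ^ 3) := by ring
          _ = _ := by rw [h2]; ring)
    have hodd : Odd ((q ^ 3 + 1) * ((q + 1) * (q - 1))) :=
      (((Nat.even_pow).2 ⟨even_q hu, by norm_num⟩).add_one).mul ((even_q hu).add_one.mul c.odd_sub)
    rw [← h3] at hodd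
    exact (Nat.not_even_iff_odd.2 (Nat.odd_mul.1 hodd).2) (even_iff_two_dvd.2 hd)
  obtain ⟨g₀, hg₀⟩ := MulAction.exists_smul_eq (Cfsg.PSU 3 F q)
    ((hidx P' hP').1.toSylow (hidx P' hP').2) ((hidx S hS).1.toSylow (hidx S hS).2)
  have hg₀' : P'.map (MulAut.conj g₀).toMonoidHom = S := by
    have h := congrArg Sylow.toSubgroup hg₀
    rw [Sylow.coe_subgroup_smul] at h
    exact h
  set eL : ↥L ≃* Cfsg.PSU 3 F q := e₀.trans (MulAut.conj g₀) with heL
  have heP : ∀ y : ↥L, (y : G) ∈ c.P ↔ eL y ∈ S := fun y => by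
    rw [← hg₀', heL, MulEquiv.trans_apply]
    constructor
    · intro hy
      exact ⟨_, ⟨y, hy, rfl⟩, rfl⟩
    · rintro ⟨_, ⟨z, hz, rfl⟩, hzy⟩
      have h1 : MulAut.conj g₀ (e₀ z) = MulAut.conj g₀ (e₀ y) := hzy
      rwa [← e₀.injective ((MulAut.conj g₀).injective h1)]
  let ι : G →* MulAut (Cfsg.PSU 3 F q) := (MulAut.congr eL).toMonoidHom.comp (MulAut.conjNormal (H := L))
  have hι : ∀ (g : G) (y : ↥L), ι g (eL y) = eL (MulAut.conjNormal g y) := fun g y => by
    show eL (MulAut.conjNormal g (eL.symm (eL y))) = _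
    rw [MulEquiv.symm_apply_apply]
  have hιL : ∀ y : ↥L, ι y = MulAut.conj (eL y) := fun y => MulEquiv.ext fun z => by
    obtain ⟨w, rfl⟩ := eL.surjective z
    rw [hι, MulAut.conj_apply, ← map_inv, ← map_mul, ← map_mul]
    exact congrArg eL (Subtype.ext (MulAut.conjNormal_apply ..))
  have hinj : Function.Injective ι := by
    refine (injective_iff_map_eq_one ι).2 fun g hg => ?_
    have hc : ∀ y : ↥L, g * (y : G) = (y : G) * g := fun y => by
      have h1 := hι g y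
      rw [hg, MulAut.one_apply] at h1
      have h2 := congrArg Subtype.val (eL.injective h1)
      rw [MulAut.conjNormal_apply] at h2
      exact mul_inv_eq_iff_eq_mul.1 h2.symm
    obtain ⟨hgC, hgg⟩ := c.centralizes_P fun p hp => hc ⟨p, hPL hp⟩
    have hgL : g ∈ L := hPL (c.invol_central hgg hgC).1
    have h1 : MulAut.conj (eL ⟨g, hgL⟩) = 1 := by rw [← hιL]; exact hg
    have h2 := conj_injective hu 2 le_rfl (h1.trans (map_one MulAut.conj).symm)
    rw [MulEquiv.map_eq_one_iff] at h2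
    exact congrArg Subtype.val h2
  obtain ⟨ψ, hψ, hker⟩ := exists_proj hu 2 le_rfl hs
  have hψL : ∀ y : G, y ∈ L → ψ (ι y) = 1 := fun y hy => by
    rw [← MonoidHom.mem_ker, hker, hιL ⟨y, hy⟩]
    exact inn_le_inndiag ⟨_, rfl⟩
  have hcard : Nat.card G = Nat.card (Cfsg.inndiagPSU 3 F q) := by
    refine Nat.eq_of_mul_eq_mul_left (show 0 < q + 1 by omega) ?_
    rw [card_inndiag hu 2 le_rfl, Leech.Model.card_PSU_mul (hu_card hu) (by norm_num), c.card_G]
    simp [Finset.prod_range_succ, Nat.even_iff]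
    rw [show q ^ 2 - 1 = (q + 1) * (q - 1) by rw [← Nat.sq_sub_sq, one_pow]]
    ring
  have hindex : L.index = Nat.gcd 3 (q + 1) := by
    refine Nat.eq_of_mul_eq_mul_right (show 0 < Nat.card L from Nat.card_pos) ?_
    rw [L.index_mul_card, hcard, card_inndiag hu 2 le_rfl, Nat.card_congr eL.toEquiv]
  have hrange : ∀ g, ι g ∈ Cfsg.inndiagPSU 3 F q := fun g => by
    rw [← hker, MonoidHom.mem_ker]
    have hpowτ : ∀ z : G, (ψ (ι z)) ^ L.index = 1 := fun z => by
      rw [← map_pow, ← map_pow]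
      exact hψL _ (by
        rw [← QuotientGroup.eq_one_iff, QuotientGroup.mk_pow]
        exact pow_card_eq_one')
    by_cases hd1 : Nat.gcd 3 (q + 1) = 1
    · have := hpowτ g
      rwa [hindex, hd1, pow_one] at this
    have h3 : 3 ∣ q + 1 := by
      by_contra h
      exact hd1 (Nat.prime_three.coprime_iff_not_dvd.2 h)
    have hτ3 : ∀ z : G, (ψ (ι z)) ^ 3 = 1 := fun z => by
      have := hpowτ z
      rwa [hindex, Nat.gcd_eq_left h3] at this
    obtain ⟨w, hwL, hwb⟩ : ∃ w ∈ L, w • c.base = g • c.base := by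
      by_cases hgb : g • c.base = c.base
      · exact ⟨1, one_mem _, by rw [one_smul, hgb]⟩
      · obtain ⟨w, hw, hwb, -⟩ := c.exists_swap (p := c.base) (r := g • c.base) (Ne.symm hgb)
        exact ⟨w, hinvol w hw, hwb⟩
    have hH : w⁻¹ * g ∈ c.H := c.mem_H_iff_smul.2 (by rw [mul_smul, ← hwb, inv_smul_smul])
    obtain ⟨p, hp, d, hd, hpd⟩ := c.exists_PD hu2 huH hH
    have hτd : ψ (ι g) = ψ (ι d) := by
      rw [show g = w * p * d by rw [mul_assoc, ← hpd]; group, map_mul, map_mul, map_mul, map_mul,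
        hψL w hwL, hψL p (hPL hp), one_mul, one_mul]
    rw [hτd]
    set τ := ψ (ι d) with hτdef
    have hfixK : ∀ l, σ l = l → (τ ^ 2) l = l := by
      intro l hl
      rcases eq_or_ne l 0 with rfl | hl0
      · exact map_zero _
      obtain ⟨s, hsN, hspow, hstr⟩ := hT l hl hl0
      set y := eL.symm (mkU s) with hy
      have hey : eL y = mkU s := eL.apply_symm_apply _
      have hyH : (y : G) ∈ c.H := by
        refine c.mem_H_iff.2 (c.P_le ?_)
        have hxP := (c.invol_central (Invol.mul_self_eq_one c.hx) c.x_mem).1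
        have h1 := (heP ⟨c.x, hPL hxP⟩).1 hxP
        have h2 : eL (y * ⟨c.x, hPL hxP⟩ * y⁻¹) ∈ S := by
          rw [map_mul, map_mul, map_inv, hey]
          exact (Subgroup.mem_normalizer_iff.1 hsN _).1 h1
        exact (heP _).2 h2
      have hypow : (y : G) ^ (q - 1) = 1 := by
        rw [← SubgroupClass.coe_pow, hy, ← map_pow, hspow, map_one, OneMemClass.coe_one]
      obtain ⟨v, hv, t, ht, hyt⟩ := c.exists_T hu2 huH hyH hypow
      set d' := v * d * v⁻¹ with hd'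
      have hd'c : d' * (y : G) = (y : G) * d' := by
        rw [hd', hyt, show v * d * v⁻¹ * (v * t * v⁻¹) = v * (d * t) * v⁻¹ by group,
          c.D_comm hu2 huH hd ht.1]
        group
      have hfix : ι d' (mkU s) = mkU s := by
        rw [← hey, hι]
        refine congrArg eL (Subtype.ext ?_)
        rw [MulAut.conjNormal_apply, hd'c, mul_inv_cancel_right]
      have hτ' : ψ (ι d') = τ := by
        rw [hd', map_mul, map_mul, map_mul, map_mul, map_inv, map_inv, hψL v (hPL hv), one_mul, inv_one, mul_one]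
      obtain ⟨x, ρ, hxρ⟩ := AutPSU.exists_decomp hu 2 le_rfl hs (ι d')
      have hρ : ρ = τ := by
        rw [← hτ', hxρ, map_mul, hψ, show ψ (conjA x) = 1 from MonoidHom.mem_ker.1 (hker ▸ conjA_mem x), one_mul]
      rw [hxρ, MulAut.mul_apply, fieldA_mkU, conjA_mkU] at hfix
      set s' := conjSu x (fieldSu ρ s) with hs'
      obtain ⟨a, ha⟩ := center_scalar (z := s⁻¹ * s') hu (by norm_num) (by
        rw [← mkU_eq_one_iff, map_mul, map_inv, hfix, inv_mul_cancel])
      have hmat : mat s' = a • mat s := by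
        refine Matrix.ext_of_mulVec_single fun j => ?_
        rw [show s' = s * (s⁻¹ * s') by group, mat_mul_mulVec, ha, Matrix.mulVec_smul, Matrix.smul_mulVec]
      have ha3 : a ^ 3 = 1 := by
        have h1 : (mat s').det = (a • mat s).det := by rw [hmat]
        rw [Matrix.det_smul, Fintype.card_fin, s'.1.2, s.1.2, mul_one] at h1
        exact h1.symm
      have htr : ρ (1 + l + l⁻¹) = a * (1 + l + l⁻¹) := by
        have h1 := congrArg Matrix.trace hmat
        rw [hs', mat_conjSu, mat_fieldSu, Matrix.trace_mul_comm, ← Matrix.mul_assoc, Units.inv_mul,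
          Matrix.one_mul, Matrix.trace_smul, hstr, smul_eq_mul] at h1
        rw [← h1, ← hstr]
        exact AddMonoidHom.map_trace ρ.toAddMonoidHom (mat s) |>.trans rfl
      have hσt : σ (1 + l + l⁻¹) = 1 + l + l⁻¹ := by rw [map_add, map_add, map_one, map_inv₀, hl]
      have htfix : ρ (1 + l + l⁻¹) = 1 + l + l⁻¹ := by
        rcases eq_or_ne (1 + l + l⁻¹) 0 with h0 | h0
        · rw [h0, map_zero]
        · have h1 := congrArg σ htr
          rw [← hu.comm, hσt, map_mul, hσt, htr] at h1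
          have ha : σ a = a := (mul_right_cancel₀ h0 h1).symm
          have ha1 : a ^ (q - 1) = 1 := by
            have ha0 : a ≠ 0 := fun h => by simp [h] at ha3
            have h2 := hu.pow a
            rw [ha] at h2
            refine mul_left_cancel₀ ha0 ?_
            rw [mul_one, ← pow_succ', show q - 1 + 1 = q by have := c.hq; omega, ← h2]
          have hcop : Nat.Coprime 3 (q - 1) := Nat.prime_three.coprime_iff_not_dvd.2 fun h => by
            have := c.hq; omega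
          have : a = 1 := by
            have h2 : a ^ Nat.gcd 3 (q - 1) = 1 := pow_gcd_eq_one.2 ⟨ha3, ha1⟩
            rwa [hcop, pow_one] at h2
          rw [htr, this, one_mul]
      have hroot : (ρ l + l) * (ρ l + l⁻¹) = 0 := by
        rw [map_add, map_add, map_one, map_inv₀] at htfix
        have h1 : ρ l * (ρ l)⁻¹ = 1 := mul_inv_cancel₀ ((map_ne_zero ρ).2 hl0)
        have h2 : l * l⁻¹ = 1 := mul_inv_cancel₀ hl0
        linear_combination ρ l * htfix + h2 - h1 + (CharTwo.two_eq_zero : (2 : F) = 0) * (ρ l * l + ρ l * l⁻¹)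
      rw [hρ] at hroot
      rw [pow_two, RingAut.mul_apply]
      rcases mul_eq_zero.1 hroot with h6 | h6 <;> rw [CharTwo.add_eq_zero] at h6
      · rw [h6, h6]
      · rw [h6, map_inv₀, h6, inv_inv]
    have h3τ : τ ^ 3 = 1 := hτ3 d
    have hK : ∀ l, σ l = l → τ l = l := fun l hl => by
      have h1 : (τ ^ 2) ((τ ^ 2) l) = l := by rw [hfixK l hl, hfixK l hl]
      rw [← RingAut.mul_apply, ← pow_add, show 2 + 2 = 3 + 1 by norm_num, pow_succ, h3τ, one_mul] at h1
      exact h1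
    have h2τ := sq_eq_one_of_fix hu hK
    rwa [pow_succ, h2τ, one_mul] at h3τ
  have hrange' : ι.range = (conjA (n := 3) (F := F) (q := q)).range := by
    rw [← inndiagPSU_eq]
    refine Subgroup.eq_of_le_of_card_ge (by rintro _ ⟨g, rfl⟩; exact hrange g) ?_
    rw [← hcard, ← Nat.card_congr (MonoidHom.ofInjective hinj).toEquiv]
  exact ⟨(MonoidHom.ofInjective hinj).trans ((MulEquiv.subgroupCongr hrange').trans
    ((QuotientGroup.quotientKerEquivRange (conjA (n := 3) (F := F) (q := q))).symm.trans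
      (QuotientGroup.quotientMulEquivOfEq (center_GU hu).symm)))⟩

end Ctx

end Cfsg.Agent.PGU3Rec
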