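import Cfsg.Agent.PSU3Sylow.Heis
import Cfsg.Agent.AutPSU.Structure
import Mathlib.GroupTheory.SemidirectProduct

/-! # The centralizer of an involution in PGU₃ in even characteristic

The model group is the group of pairs extended by the elements of norm one. -/

set_option autoImplicit false

namespace Cfsg.Agent.PGU3Rec

open Matrix Cfsg.Agent.AutPSU Cfsg.Agent.PSU3Sylow Classical.Herm

variable {F : Type*} [Field F] [CharP F 2] {σ : F →+* F} {q : ℕ} (hu : UCtx σ q)

/-- The elements of norm one. -/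
abbrev KN (σ : F →+* F) : Subgroup Fˣ := (normHom σ).ker

/-- The value of an element of norm one. -/
abbrev kv {σ : F →+* F} (μ : KN σ) : F := ((μ : Fˣ) : F)

omit [CharP F 2] in
theorem kv_norm (μ : KN σ) : kv μ * σ (kv μ) = 1 := congrArg Units.val μ.2

omit [CharP F 2] in
theorem kv_inv_mul (μ : KN σ) : kv μ⁻¹ * kv μ = 1 := by
  simp [kv]

omit [CharP F 2] in
theorem kv_mul (μ ν : KN σ) : kv (μ * ν) = kv μ * kv ν := rfl

omit [CharP F 2] in
theorem kv_one : kv (1 : KN σ) = 1 := rfl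

/-- Scaling the first coordinate by an element of norm one. -/
def rot : KN σ →* MulAut (Heis hu) where
  toFun μ :=
    { toFun := fun a => ⟨kv μ * a.x, a.d, by
        rw [map_mul, a.cond]
        linear_combination -(a.x * σ a.x) * kv_norm μ⟩
      invFun := fun a => ⟨kv μ⁻¹ * a.x, a.d, by
        rw [map_mul, a.cond]
        linear_combination -(a.x * σ a.x) * kv_norm μ⁻¹⟩
      left_inv := fun a => Heis.ext (by show kv μ⁻¹ * (kv μ * a.x) = a.x; rw [← mul_assoc, kv_inv_mul, one_mul]) rfl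
      right_inv := fun a => Heis.ext (by show kv μ * (kv μ⁻¹ * a.x) = a.x; rw [← mul_assoc, mul_comm (kv μ), kv_inv_mul, one_mul]) rfl
      map_mul' := fun a b => Heis.ext (mul_add _ _ _) (by
        show a.d + b.d + σ a.x * b.x = a.d + b.d + σ (kv μ * a.x) * (kv μ * b.x)
        rw [map_mul]
        linear_combination -(σ a.x * b.x) * kv_norm μ) }
  map_one' := MulEquiv.ext fun a => Heis.ext (by show kv 1 * a.x = a.x; rw [kv_one, one_mul]) rfl
  map_mul' μ ν := MulEquiv.ext fun a => Heis.ext (by show kv (μ * ν) * a.x = kv μ * (kv ν * a.x); rw [kv_mul, mul_assoc]) rfl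

@[simp] theorem rot_x (μ : KN σ) (a : Heis hu) : (rot hu μ a).x = kv μ * a.x := rfl
@[simp] theorem rot_d (μ : KN σ) (a : Heis hu) : (rot hu μ a).d = a.d := rfl

/-- The model group. -/
abbrev CM := Heis hu ⋊[rot hu] KN σ

variable [Fintype F]
include hu

omit [CharP F 2] in
theorem card_KN : Nat.card (KN σ) = q + 1 := by rw [card_ker_normHom hu.toIsInvol, hu.card_fix]

theorem finite_heis : Finite (Heis hu) :=
  Nat.finite_of_card_ne_zero (by rw [Heis.card_eq]; exact pow_ne_zero _ (by have := hu.one_lt; omega))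

theorem card_CM : Nat.card (CM hu) = q ^ 3 * (q + 1) := by
  rw [Nat.card_congr SemidirectProduct.equivProd, Nat.card_prod, Heis.card_eq, card_KN hu]

theorem finite_CM : Finite (CM hu) :=
  Nat.finite_of_card_ne_zero (by
    rw [card_CM]
    exact Nat.mul_ne_zero (pow_ne_zero _ (by have := hu.one_lt; omega)) (Nat.succ_ne_zero q))

/-! ### The realisation in the unitary group -/

theorem center_GU :
    Subgroup.center ↥(Cfsg.GU 3 F q) = (conjA (n := 3) (F := F) (q := q)).ker := by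
  have : Fact (Nat.Prime 2) := ⟨Nat.prime_two⟩
  refine le_antisymm (fun g hg => MonoidHom.mem_ker.2 (autExt fun s => ?_)) fun g hg => ?_
  · rw [conjA_mkU, MulAut.one_apply]
    congr 1
    refine su_ext ?_
    rw [mat_conjSu]
    have h := congrArg (fun z : ↥(Cfsg.GU 3 F q) => gmat z.1) (Subgroup.mem_center_iff.1 hg (suToGU s)).symm
    have h' : gmat g.1 * mat s = mat s * gmat g.1 := h
    rw [h', Matrix.mul_assoc, Units.mul_inv, Matrix.mul_one]
  · rw [ker_conjA hu 2 le_rfl] at hg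
    obtain ⟨a, rfl⟩ := hg
    refine Subgroup.mem_center_iff.2 fun h => Subtype.ext (Units.ext ?_)
    refine Matrix.ext_of_mulVec_single fun j => ?_
    show (gmat h.1 * gmat (scalarU hu a).1) *ᵥ _ = (gmat (scalarU hu a).1 * gmat h.1) *ᵥ _
    rw [← Matrix.mulVec_mulVec, ← Matrix.mulVec_mulVec, scalarU_mulVec, scalarU_mulVec, Matrix.mulVec_smul]

omit [CharP F 2] in
theorem gu_ext {e f b : Vn 3 F} (hline : ∀ x, InW σ e f x → ∃ c : F, x = c • b) {g h : ↥(Cfsg.GU 3 F q)}
    (he : gmat g.1 *ᵥ e = gmat h.1 *ᵥ e) (hf : gmat g.1 *ᵥ f = gmat h.1 *ᵥ f)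
    (hb : gmat g.1 *ᵥ b = gmat h.1 *ᵥ b) (H : HP σ e f) : g = h := by
  refine Subtype.ext (Units.ext (Matrix.ext_of_mulVec_single fun j => ?_))
  obtain ⟨c, hc⟩ := hline _ (H.proj_mem hu (Pi.single j 1))
  show gmat g.1 *ᵥ _ = gmat h.1 *ᵥ _
  rw [eq_proj (σ := σ) e f (Pi.single j 1), hc]
  simp only [Matrix.mulVec_add, Matrix.mulVec_smul, he, hf, hb]

omit [CharP F 2] [Fintype F] hu in
theorem gmat_mul_mulVec (g h : ↥(Cfsg.GU 3 F q)) (v : Vn 3 F) :
    gmat (g * h).1 *ᵥ v = gmat g.1 *ᵥ (gmat h.1 *ᵥ v) := (Matrix.mulVec_mulVec _ _ _).symm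

/-- The centralizer of an involution of PGU₃ is the model group. -/
theorem exists_model :
    ∃ y : ↥(Cfsg.GU 3 F q) ⧸ Subgroup.center ↥(Cfsg.GU 3 F q), orderOf y = 2 ∧
      Nonempty (CM hu ≃* ↥(Subgroup.centralizer ({y} : Set (↥(Cfsg.GU 3 F q) ⧸ Subgroup.center ↥(Cfsg.GU 3 F q))))) := by
  classical
  have : Fact (Nat.Prime 2) := ⟨Nat.prime_two⟩
  obtain ⟨e, f, he, hf, hef, -⟩ := exists_fixed_pair hu 2 (le_refl 3)
  have H : HP σ e f := ⟨he, hf, hef⟩
  obtain ⟨b, hb1, hbW, hline⟩ := line_of_three hu rfl H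
  have hW : ∀ x : F, InW σ e f (x • b) := fun x => hbW.smul x
  have hb0 : b ≠ 0 := fun h => by simp [h] at hb1
  have hd : ∀ a : Heis hu, a.d + σ a.d = -hB 3 σ (a.x • b) (a.x • b) := fun a => by
    rw [smul_self (hu.isHerm 3), hb1, mul_one, a.cond, CharTwo.neg_eq]
  have hE : ∀ a : Heis hu, IsE σ e (a.x • b) a.d := fun a => H.isE hu (hW _) (hd a)
  let φU : Heis hu →* ↥(Cfsg.GU 3 F q) := MonoidHom.mk'
    (fun a => suToGU (eS hu e (a.x • b) a.d)) fun a a' => by
      show _ = suToGU _ * suToGU _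
      rw [← map_mul, eS_mul hu (hE a) (hE a'), ← add_smul, CharTwo.sub_eq_add]
      simp only [map_smulₛₗ, LinearMap.smul_apply, hb1, smul_eq_mul, RingHom.id_apply, mul_one,
        Heis.mul_x, Heis.mul_d]
      rw [mul_comm a'.x]
  have hUv : ∀ a v, gmat (φU a).1 *ᵥ v = mat (eS hu e (a.x • b) a.d) *ᵥ v := fun a v => rfl
  have hUe : ∀ a, gmat (φU a).1 *ᵥ e = e := fun a => by rw [hUv, eS_fix hu (hE a)]
  have hUf : ∀ a, gmat (φU a).1 *ᵥ f = f + a.x • b + a.d • e := fun a => by rw [hUv, H.eS_f hu (hW _) (hd a)]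
  have hUb : ∀ a, gmat (φU a).1 *ᵥ b = b + σ a.x • e := fun a => by
    rw [hUv, eS_mulVec hu (hE a), hbW.1, map_smulₛₗ, LinearMap.smul_apply, hb1, smul_eq_mul, mul_one,
      zero_smul, add_zero, mul_zero, zero_sub, CharTwo.neg_eq]
  have hR : ∀ μ : KN σ, ∃ g : ↥(Cfsg.GU 3 F q), gmat g.1 *ᵥ b = kv μ • b ∧
      ∀ a, hB 3 σ b a = 0 → gmat g.1 *ᵥ a = a := fun μ => by
    obtain ⟨g, h1, h2, -⟩ := exists_refl hu hb1 (kv_norm μ)
    exact ⟨g, h1, h2⟩
  choose R hRb hRfix using hR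
  have hbe : hB 3 σ b e = 0 := hbW.a_e hu
  have hbf : hB 3 σ b f = 0 := hbW.a_f hu
  let φK : KN σ →* ↥(Cfsg.GU 3 F q) := MonoidHom.mk' R fun μ ν =>
    gu_ext hu hline (by rw [gmat_mul_mulVec, hRfix _ e hbe, hRfix _ e hbe, hRfix _ e hbe])
      (by rw [gmat_mul_mulVec, hRfix _ f hbf, hRfix _ f hbf, hRfix _ f hbf])
      (by rw [gmat_mul_mulVec, hRb, hRb, Matrix.mulVec_smul, hRb, smul_smul, kv_mul, mul_comm]) H
  have hKv : ∀ μ, φK μ = R μ := fun μ => rfl
  have hKe : ∀ μ, gmat (φK μ).1 *ᵥ e = e := fun μ => by rw [hKv, hRfix _ e hbe]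
  have hKf : ∀ μ, gmat (φK μ).1 *ᵥ f = f := fun μ => by rw [hKv, hRfix _ f hbf]
  have hcompat : ∀ μ a, φU (rot hu μ a) * φK μ = φK μ * φU a := fun μ a => by
    refine gu_ext hu hline ?_ ?_ ?_ H
    · rw [gmat_mul_mulVec, gmat_mul_mulVec, hKe, hUe, hUe, hKe]
    · rw [gmat_mul_mulVec, gmat_mul_mulVec, hKf, hUf, hUf]
      simp only [Matrix.mulVec_add, Matrix.mulVec_smul, rot_x, rot_d, hKv, hRb, hRfix _ e hbe, hRfix _ f hbf,
        smul_smul, mul_comm]
    · rw [gmat_mul_mulVec, gmat_mul_mulVec, hKv, hRb, Matrix.mulVec_smul, hUb, hUb]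
      simp only [Matrix.mulVec_add, Matrix.mulVec_smul, smul_add, smul_smul, rot_x, map_mul, hRb, hRfix _ e hbe]
      rw [← mul_assoc, kv_norm, one_mul]
  let ψ : CM hu →* ↥(Cfsg.GU 3 F q) := SemidirectProduct.lift φU φK fun μ => MonoidHom.ext fun a => by
    show φU (rot hu μ a) = φK μ * φU a * (φK μ)⁻¹
    rw [← hcompat, mul_inv_cancel_right]
  have hψ : ∀ z : CM hu, ψ z = φU z.left * φK z.right := fun z => rfl
  have hψe : ∀ z : CM hu, gmat (ψ z).1 *ᵥ e = e := fun z => by rw [hψ, gmat_mul_mulVec, hKe, hUe]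
  have hψf : ∀ z : CM hu, gmat (ψ z).1 *ᵥ f = f + z.left.x • b + z.left.d • e := fun z => by
    rw [hψ, gmat_mul_mulVec, hKf, hUf]
  let π : CM hu →* ↥(Cfsg.GU 3 F q) ⧸ Subgroup.center ↥(Cfsg.GU 3 F q) := (QuotientGroup.mk' _).comp ψ
  have hψinj : Function.Injective π := by
    refine (injective_iff_map_eq_one π).2 fun z hz => ?_
    have hz' : ψ z ∈ Subgroup.center ↥(Cfsg.GU 3 F q) := (QuotientGroup.eq_one_iff _).1 hz
    rw [center_GU hu, ker_conjA hu 2 le_rfl] at hz'
    obtain ⟨a, ha⟩ := hz'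
    have h1 := hψe z
    rw [← ha, scalarU_mulVec] at h1
    have ha1 : ((a.1 : Fˣ) : F) = 1 := smul_left_injective F H.e_ne (h1.trans (one_smul F e).symm)
    have hv : ∀ v, gmat (ψ z).1 *ᵥ v = v := fun v => by rw [← ha, scalarU_mulVec, ha1, one_smul]
    have h2 := hψf z
    rw [hv, add_assoc] at h2
    have h3 : z.left.x • b + z.left.d • e = 0 := by simpa using h2.symm
    have h4 := congrArg (hB 3 σ b) h3
    rw [map_add, map_smul, map_smul, hb1, hbe, map_zero, smul_eq_mul, smul_eq_mul, mul_one, mul_zero,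
      add_zero] at h4
    rw [h4, zero_smul, zero_add] at h3
    have h5 : z.left.d = 0 := (smul_eq_zero.1 h3).resolve_right H.e_ne
    have hl : z.left = 1 := Heis.ext h4 h5
    have h6 := hv b
    rw [hψ, hl, map_one, one_mul, hKv, hRb] at h6
    have h7 : kv z.right = 1 := smul_left_injective F hb0 (h6.trans (one_smul F b).symm)
    exact SemidirectProduct.ext hl (Subtype.ext (Units.ext h7))
  let c : CM hu := SemidirectProduct.inl (Heis.zc 1 (map_one σ))
  have hc2 : orderOf c = 2 := by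
    refine orderOf_eq_prime ?_ ?_
    · rw [pow_two, show c * c = SemidirectProduct.inl (Heis.zc 1 (map_one σ) * Heis.zc 1 (map_one σ)) from
        (map_mul _ _ _).symm, (Heis.mul_self_eq_one_iff _).2 rfl, map_one]
    · intro h
      have := congrArg (fun z : CM hu => z.left.d) h
      exact one_ne_zero (this : (1 : F) = 0)
  have hy : π.range = Subgroup.centralizer
      ({π c} : Set (↥(Cfsg.GU 3 F q) ⧸ Subgroup.center ↥(Cfsg.GU 3 F q))) := by
    refine le_antisymm ?_ fun y hy => ?_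
    · rintro _ ⟨z, rfl⟩
      refine Subgroup.mem_centralizer_singleton_iff.2 ?_
      rw [← map_mul, ← map_mul]
      congr 1
      refine SemidirectProduct.ext (Heis.ext ?_ ?_) ?_
      · simp [c, Heis.zc]
      · simp [c, Heis.zc]; ring
      · simp [c]
    · obtain ⟨g, rfl⟩ := QuotientGroup.mk'_surjective _ y
      set t := ψ c with ht
      have hcg : QuotientGroup.mk' (Subgroup.center ↥(Cfsg.GU 3 F q)) (g * t) =
          QuotientGroup.mk' _ (t * g) := by
        rw [map_mul, map_mul]; exact Subgroup.mem_centralizer_singleton_iff.1 hy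
      have hz : g * t * g⁻¹ * t⁻¹ ∈ Subgroup.center ↥(Cfsg.GU 3 F q) := by
        rw [← QuotientGroup.eq_one_iff, ← QuotientGroup.mk'_apply, map_mul, map_mul, hcg, map_mul, map_inv,
          map_inv]
        group
      have htt : t * t = 1 := by
        rw [ht, ← map_mul, ← pow_two, ← hc2, pow_orderOf_eq_one, map_one]
      have hzz : (g * t * g⁻¹ * t⁻¹) * (g * t * g⁻¹ * t⁻¹) = 1 := by
        have h1 : g * t * g⁻¹ = (g * t * g⁻¹ * t⁻¹) * t := by group
        have h2 : (g * t * g⁻¹) * (g * t * g⁻¹) = 1 := by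
          calc _ = g * (t * t) * g⁻¹ := by group
            _ = 1 := by rw [htt, mul_one, mul_inv_cancel]
        rw [h1] at h2
        calc _ = (g * t * g⁻¹ * t⁻¹) * (g * t * g⁻¹ * t⁻¹) * (t * t) := by rw [htt, mul_one]
          _ = (g * t * g⁻¹ * t⁻¹) * ((g * t * g⁻¹ * t⁻¹) * t) * t := by group
          _ = (g * t * g⁻¹ * t⁻¹) * (t * (g * t * g⁻¹ * t⁻¹)) * t := by
              rw [← Subgroup.mem_center_iff.1 hz t]
          _ = _ := by rw [← h2]; group
      have hcomm : g * t = t * g := by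
        rw [center_GU hu, ker_conjA hu 2 le_rfl] at hz
        obtain ⟨a, ha⟩ := hz
        rw [← ha, ← map_mul] at hzz
        have h1 := congrArg (fun z : ↥(Cfsg.GU 3 F q) => gmat z.1 *ᵥ e) hzz
        simp only [scalarU_mulVec] at h1
        have h2 : ((a.1 : Fˣ) : F) * ((a.1 : Fˣ) : F) = 1 := by
          refine smul_left_injective F H.e_ne ?_
          show _ • e = (1 : F) • e
          rw [one_smul, ← Units.val_mul]
          refine h1.trans ?_
          show gmat (1 : ↥(Cfsg.GU 3 F q)).1 *ᵥ e = e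
          simp [gmat]
        have h3 : ((a.1 : Fˣ) : F) = 1 := by
          refine CharTwo.add_eq_zero.1 (mul_self_eq_zero.1 ?_)
          linear_combination h2 + CharTwo.add_self_eq_zero ((a.1 : Fˣ) : F) + CharTwo.add_self_eq_zero (1 : F)
        have h4 : a = 1 := Subtype.ext (Units.ext h3)
        rw [h4, map_one] at ha
        calc g * t = (g * t * g⁻¹ * t⁻¹) * (t * g) := by group
          _ = t * g := by rw [← ha, one_mul]
      have htv : ∀ v, gmat t.1 *ᵥ v = v + hB 3 σ e v • e := fun v => by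
        rw [ht, hψ]
        rw [show c.right = 1 from rfl, map_one, mul_one, hUv]
        show mat (eS hu e ((0 : F) • b) (1 : F)) *ᵥ v = _
        rw [zero_smul, tr_mulVec hu he (by rw [map_one, CharTwo.add_self_eq_zero]), one_mul]
      have hge : gmat g.1 *ᵥ e = hB 3 σ e (gmat g.1 *ᵥ f) • e := by
        have h1 := congrArg (fun z : ↥(Cfsg.GU 3 F q) => gmat z.1 *ᵥ f) hcomm
        simp only [gmat_mul_mulVec, htv, Matrix.mulVec_add, hef, one_smul] at h1
        exact add_left_cancel h1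
      set l := hB 3 σ e (gmat g.1 *ᵥ f) with hl
      have hln : l * σ l = 1 := by
        have h1 := hB_gmat hu g e f
        rw [hge, map_smulₛₗ, LinearMap.smul_apply, hef, smul_eq_mul, ← hl] at h1
        rw [mul_comm]; exact h1
      have hl0 : l ≠ 0 := left_ne_zero_of_mul_eq_one hln
      let lk : KN σ := ⟨Units.mk0 l hl0, Units.ext hln⟩
      set g₀ := scalarU hu (n := 3) lk⁻¹ * g with hg₀
      have hg₀e : gmat g₀.1 *ᵥ e = e := by
        rw [hg₀, gmat_mul_mulVec, scalarU_mulVec, hge, smul_smul]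
        simp [lk, inv_mul_cancel₀ hl0]
      have hg₀f : hB 3 σ e (gmat g₀.1 *ᵥ f) = 1 := by
        have := hB_gmat hu g₀ e f
        rwa [hg₀e, hef] at this
      obtain ⟨x, hx⟩ := hline _ (H.proj_mem hu (gmat g₀.1 *ᵥ f))
      set d := hB 3 σ f (gmat g₀.1 *ᵥ f) with hdd
      have hg₀f' : gmat g₀.1 *ᵥ f = d • e + f + x • b := by
        conv_lhs => rw [eq_proj (σ := σ) e f (gmat g₀.1 *ᵥ f), hg₀f, one_smul, hx]
      have hcond : d + σ d = x * σ x := by
        have h1 := hB_gmat hu g₀ f f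
        rw [hg₀f', hf] at h1
        simp [he, hf, hef, H.fe hu, hbW.1, hbW.2, hbe, hbf, hb1] at h1
        linear_combination h1 - CharTwo.add_self_eq_zero (x * σ x)
      let a : Heis hu := ⟨x, d, hcond⟩
      set g₁ := (φU a)⁻¹ * g₀ with hg₁
      have hg₁e : gmat g₁.1 *ᵥ e = e := by
        rw [hg₁, gmat_mul_mulVec, hg₀e]
        conv_lhs => rw [← hUe a]
        exact gmat_inv_mulVec _ _
      have hg₁f : gmat g₁.1 *ᵥ f = f := by
        rw [hg₁, gmat_mul_mulVec, hg₀f']
        rw [show d • e + f + x • b = gmat (φU a).1 *ᵥ f by rw [hUf]; abel]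
        exact gmat_inv_mulVec _ _
      obtain ⟨μ, hμ⟩ := hline (gmat g₁.1 *ᵥ b) ⟨by
          have := hB_gmat hu g₁ e b
          rwa [hg₁e, hbW.1] at this, by
          have := hB_gmat hu g₁ f b
          rwa [hg₁f, hbW.2] at this⟩
      have hμn : μ * σ μ = 1 := by
        have := hB_gmat hu g₁ b b
        rwa [hμ, smul_self (hu.isHerm 3), hb1, mul_one] at this
      let μk : KN σ := ⟨Units.mk0 μ (left_ne_zero_of_mul_eq_one hμn), Units.ext hμn⟩
      have hg1 : g₁ = φK μk := gu_ext hu hline (by rw [hg₁e, hKe]) (by rw [hg₁f, hKf])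
        (by rw [hμ, hKv, hRb]; rfl) H
      refine ⟨⟨a, μk⟩, ?_⟩
      show QuotientGroup.mk' _ (ψ ⟨a, μk⟩) = _
      rw [hψ, ← hg1, hg₁, mul_inv_cancel_left, hg₀, map_mul, QuotientGroup.mk'_apply, QuotientGroup.mk'_apply,
        (QuotientGroup.eq_one_iff _).2 (show scalarU hu lk⁻¹ ∈ _ by
          rw [center_GU hu, ker_conjA hu 2 le_rfl]; exact ⟨_, rfl⟩), one_mul]
  refine ⟨π c, by rw [orderOf_injective π hψinj, hc2], ⟨?_⟩⟩
  exact (MonoidHom.ofInjective hψinj).trans (MulEquiv.subgroupCongr hy)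

end Cfsg.Agent.PGU3Rec
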