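import Cfsg.Agent.PGU3Rec.Model
import Cfsg.Agent.AutPSU.Torus
import Mathlib.FieldTheory.Fixed

/-! # Automorphisms of the model group

They are semilinear, so one of order dividing `q - 1` that is regular on the central involutions centralizes the
quotient by the Sylow two-subgroup. -/

set_option autoImplicit false

namespace Cfsg.Agent.PGU3Rec

open Cfsg.Agent.AutPSU Cfsg.Agent.PSU3Sylow Classical.Herm

variable {F : Type*} [Field F] [CharP F 2] [Fintype F] {σ : F →+* F} {q : ℕ} {hu : UCtx σ q}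

open SemidirectProduct

/-- The central element with second coordinate `d`. -/
abbrev zC (d : F) (hd : σ d = d) : CM hu := inl (Heis.zc d hd)

omit [CharP F 2] in
theorem hu_card (hu : UCtx σ q) : Fintype.card F = q ^ 2 := by
  rw [← Nat.card_eq_fintype_card, card_F hu]

theorem even_q (hu : UCtx σ q) : Even q := by
  obtain ⟨k, -, hk⟩ := FiniteField.card F 2
  rw [hu_card hu] at hk
  have h : Even (q ^ 2) := by rw [hk, Nat.even_pow]; exact ⟨even_two, k.pos.ne'⟩
  exact (Nat.even_pow.1 h).1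

theorem pow_right (z : CM hu) : z.right ^ (q + 1) = 1 := by
  rw [← card_KN hu]
  exact pow_card_eq_one'

theorem right_eq_one_of_pow {z : CM hu} {m : ℕ} (hm : Nat.Coprime m (q + 1)) (h : z ^ m = 1) : z.right = 1 := by
  refine orderOf_eq_one_iff.1 (Nat.eq_one_of_dvd_coprimes hm (orderOf_dvd_of_pow_eq_one ?_)
    (orderOf_dvd_of_pow_eq_one (pow_right z)))
  have := congrArg rightHom h
  rwa [map_pow, map_one, rightHom_eq_right] at this

theorem left_pow_cube (z : CM hu) (h : z.right = 1) : z ^ (q ^ 3) = 1 := by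
  have hz : z = inl z.left := SemidirectProduct.ext rfl h
  have := finite_heis hu
  rw [hz, ← map_pow, ← Heis.card_eq (hu := hu), pow_card_eq_one', map_one]

theorem right_eq_one_iff (z : CM hu) : z.right = 1 ↔ z ^ (q ^ 3) = 1 := by
  refine ⟨left_pow_cube z, right_eq_one_of_pow ((Nat.Coprime.pow_left 3) ?_)⟩
  simp

theorem mul_self_eq_one_iff (z : CM hu) : z * z = 1 ↔ z.right = 1 ∧ z.left.x = 0 := by
  constructor
  · intro h
    have hr : z.right = 1 := right_eq_one_of_pow (m := 2)
      (Nat.prime_two.coprime_iff_not_dvd.2 fun hd => by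
        have := (even_q hu).add_one
        exact (Nat.not_even_iff_odd.2 this) (even_iff_two_dvd.2 hd)) (by rw [pow_two, h])
    have hz : z = inl z.left := SemidirectProduct.ext rfl hr
    rw [hz, ← map_mul, ← map_one (inl (φ := rot hu))] at h
    exact ⟨hr, (Heis.mul_self_eq_one_iff _).1 (inl_injective h)⟩
  · rintro ⟨hr, hx⟩
    have hz : z = inl z.left := SemidirectProduct.ext rfl hr
    rw [hz, ← map_mul, (Heis.mul_self_eq_one_iff _).2 hx, map_one]

omit [Fintype F] in
theorem zC_commute (d : F) (hd : σ d = d) (z : CM hu) : zC d hd * z = z * zC d hd := by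
  refine SemidirectProduct.ext (Heis.ext ?_ ?_) ?_
  · simp [Heis.zc]
  · simp [Heis.zc]; ring
  · simp

theorem exists_zC_of_mul_self {z : CM hu} (h : z * z = 1) : ∃ d hd, z = zC d hd := by
  obtain ⟨hr, hx⟩ := (mul_self_eq_one_iff z).1 h
  exact ⟨z.left.d, Heis.sigma_of_x_zero _ hx, SemidirectProduct.ext (Heis.ext hx rfl) hr⟩

omit [Fintype F] in
theorem zC_inj {d d' : F} {hd : σ d = d} {hd' : σ d' = d'} (h : (zC d hd : CM hu) = zC d' hd') : d = d' :=
  congrArg (fun z : CM hu => z.left.d) h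

omit [Fintype F] in
theorem zC_eq_one {d : F} {hd : σ d = d} : (zC d hd : CM hu) = 1 ↔ d = 0 :=
  ⟨fun h => congrArg (fun z : CM hu => z.left.d) h,
    fun h => SemidirectProduct.ext (Heis.ext rfl (by simp [Heis.zc, h])) rfl⟩

/-- An element centralizing the normal Sylow two-subgroup is a central element. -/
theorem mul_self_of_centralizes {z : CM hu} (h : ∀ a : Heis hu, z * inl a = inl a * z) : z * z = 1 := by
  obtain ⟨a, ha⟩ := Heis.exists_lift (hu := hu) 1
  have h1 := congrArg (fun w : CM hu => w.left.x) (h a)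
  simp [ha] at h1
  have hk : kv z.right = 1 := by linear_combination h1
  have hr : z.right = 1 := Subtype.ext (Units.ext hk)
  refine (mul_self_eq_one_iff z).2 ⟨hr, (Heis.mem_center_iff_x z.left).1 (Subgroup.mem_center_iff.2 fun g => ?_)⟩
  have h2 := congrArg (fun w : CM hu => w.left) (h g)
  simpa [hr] using h2.symm

theorem eq_of_agree (hu : UCtx σ q) {τ : F ≃+* F} (h0 : ∀ d, σ d = d → τ d = d) {μ : F} (hμ : σ μ ≠ μ)
    (hτ : τ μ = μ) : τ = 1 := by
  have hm : μ + σ μ ≠ 0 := fun h => hμ (Heis.fix_iff.1 h)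
  refine RingEquiv.ext fun x => ?_
  set c := (x + σ x) / (μ + σ μ) with hc
  have hcf : σ c = c := by rw [hc, map_div₀, map_add, map_add, hu.invol, hu.invol, add_comm, add_comm (σ μ)]
  have ha : σ (x + c * μ) = x + c * μ := by
    refine Heis.fix_iff.1 ?_
    rw [map_add, map_mul, hcf]
    have h2 : c * (μ + σ μ) = x + σ x := div_mul_cancel₀ _ hm
    linear_combination h2 + CharTwo.add_self_eq_zero (x + σ x)
  have h3 := h0 _ ha
  rw [map_add, map_mul, h0 c hcf, hτ] at h3
  exact add_right_cancel h3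

theorem moved_of_norm_one (hu : UCtx σ q) {μ : KN σ} (h : μ ≠ 1) : σ (kv μ) ≠ kv μ := fun hf => by
  have h1 := kv_norm μ
  rw [hf] at h1
  refine h (Subtype.ext (Units.ext (CharTwo.add_eq_zero.1 (mul_self_eq_zero.1 ?_))))
  show (kv μ + 1) * (kv μ + 1) = 0
  linear_combination h1 + CharTwo.add_self_eq_zero (kv μ) + CharTwo.add_self_eq_zero (1 : F)

/-- An automorphism of the model group is semilinear. -/
theorem exists_semi (θ : MulAut (CM hu)) : ∃ (τ : F ≃+* F) (C : F), C ≠ 0 ∧ σ C = C ∧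
    (∀ z : CM hu, kv (θ z).right = τ (kv z.right)) ∧
    ∀ d hd, ∃ hd', θ (zC d hd) = zC (C * τ d) hd' := by
  classical
  have hr : ∀ z : CM hu, z.right = 1 → (θ z).right = 1 := fun z hz => by
    rw [right_eq_one_iff] at hz ⊢
    rw [← map_pow, hz, map_one]
  have hx : ∀ a : Heis hu, a.x = 0 → (θ (inl a)).left.x = 0 := fun a ha =>
    ((mul_self_eq_one_iff _).1 (by
      rw [← map_mul, ← map_mul, (Heis.mul_self_eq_one_iff a).2 ha, map_one, map_one])).2
  have hx' : ∀ a : Heis hu, (θ (inl a)).left.x = 0 → a.x = 0 := fun a ha => by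
    have h1 := (mul_self_eq_one_iff (θ (inl a))).2 ⟨hr _ rfl, ha⟩
    rw [← map_mul, ← map_one θ, EmbeddingLike.apply_eq_iff_eq, ← map_mul, ← map_one (inl (φ := rot hu))] at h1
    exact (Heis.mul_self_eq_one_iff a).1 (inl_injective h1)
  have hhom : ∀ a b : Heis hu, (θ (inl (a * b))).left.x = (θ (inl a)).left.x + (θ (inl b)).left.x := fun a b => by
    rw [map_mul, map_mul]
    simp [hr (inl a) rfl]
  have hwd : ∀ a b : Heis hu, a.x = b.x → (θ (inl a)).left.x = (θ (inl b)).left.x := fun a b hab => by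
    have h1 := hx (a⁻¹ * b) (by simp [hab, CharTwo.add_self_eq_zero])
    have h2 := hhom a (a⁻¹ * b)
    rw [mul_inv_cancel_left, h1, add_zero] at h2
    exact h2.symm
  choose lift hlift using fun x : F => Heis.exists_lift (hu := hu) x
  set g : F → F := fun x => (θ (inl (lift x))).left.x with hg
  have hga : ∀ a : Heis hu, (θ (inl a)).left.x = g a.x := fun a => hwd _ _ (hlift _).symm
  have hadd : ∀ s t, g (s + t) = g s + g t := fun s t => by
    have := hga (lift s * lift t)
    rw [Heis.mul_x, hlift, hlift, hhom] at this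
    exact this.symm
  have hkey : ∀ (z : CM hu) (x : F), g (kv z.right * x) = kv (θ z).right * g x := fun z x => by
    have h1 : z * inl (lift x) * z⁻¹ = inl (z.left * rot hu z.right (lift x) * z.left⁻¹) := by
      rw [mul_inv_eq_iff_eq_mul]
      refine SemidirectProduct.ext ?_ ?_
      · simp
      · simp
    have h2 := congrArg (fun w : CM hu => (θ w).left.x) h1
    simp only [map_mul θ, map_inv θ] at h2
    rw [hga] at h2
    simp [hr (inl (lift x)) rfl] at h2
    rw [hlift] at h2
    have h3 : g (kv z.right * x) = g (z.left.x + kv z.right * x + z.left.x) := by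
      congr 1
      linear_combination -CharTwo.add_self_eq_zero z.left.x
    rw [h3, ← h2]
    show _ = kv (θ z).right * (θ (inl (lift x))).left.x
    linear_combination CharTwo.add_self_eq_zero (θ z).left.x
  set c := g 1 with hc
  have hc0 : c ≠ 0 := fun h => one_ne_zero (α := F) ((hlift 1).symm.trans (hx' _ h))
  have hmul1 : ∀ z : CM hu, g (kv z.right) / c = kv (θ z).right := fun z => by
    have := hkey z 1
    rw [mul_one] at this
    rw [this, mul_div_cancel_right₀ _ hc0]
  have hall := hom_of_large hu (g := fun x => g x / c) (fun s t => by simp only [hadd, add_div])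
    (div_self hc0) (Set.range fun μ : KN σ => kv μ) (by rintro ⟨μ, hμ⟩; exact (μ : Fˣ).ne_zero hμ) ?_ ?_
  rotate_left
  · rw [← Nat.card_coe_set_eq, Nat.card_range_of_injective (f := fun μ : KN σ => kv μ)
      fun a b h => Subtype.ext (Units.ext h), card_KN hu]
    omega
  · rintro _ ⟨μ, rfl⟩ t
    show g (kv μ * t) / c = g (kv μ) / c * (g t / c)
    have h1 := hkey (inr μ) t
    have h2 := hmul1 (inr μ)
    rw [SemidirectProduct.right_inr] at h1 h2
    rw [h1, h2, mul_div_assoc]
  let τ₀ : F →+* F := RingHom.mk' ⟨⟨fun x => g x / c, div_self hc0⟩, hall⟩ fun s t => by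
    show g (s + t) / c = g s / c + g t / c
    rw [hadd, add_div]
  let τ : F ≃+* F := RingEquiv.ofBijective τ₀ ⟨τ₀.injective, Finite.injective_iff_surjective.1 τ₀.injective⟩
  have hτ : ∀ x, τ x = g x / c := fun x => rfl
  refine ⟨τ, σ c * c, mul_ne_zero ((map_ne_zero σ).2 hc0) hc0, by rw [map_mul, hu.invol, mul_comm],
    fun z => by rw [hτ, hmul1], fun d hd => ?_⟩
  have hd' : σ (σ c * c * τ d) = σ c * c * τ d := by
    rw [map_mul, ← hu.comm, hd, map_mul, hu.invol, mul_comm c]
  obtain ⟨s, hs⟩ := exists_norm hu.toIsInvol hd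
  have hsq : (zC d hd : CM hu) = inl (lift s) * inl (lift s) := by
    rw [← map_mul]
    refine congrArg inl ?_
    rw [Heis.mul_self]
    exact Heis.ext rfl (by show d = σ (lift s).x * (lift s).x; rw [hlift, mul_comm, hs])
  refine ⟨hd', ?_⟩
  set w := θ (inl (lift s)) with hw
  have hwr : w.right = 1 := hr _ rfl
  have hwi : w = inl w.left := SemidirectProduct.ext rfl hwr
  rw [hsq, map_mul, ← hw, hwi, ← map_mul, Heis.mul_self]
  refine congrArg inl (Heis.ext rfl ?_)
  show σ w.left.x * w.left.x = σ c * c * τ d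
  have hsc : σ c ≠ 0 := (map_ne_zero σ).2 hc0
  rw [hw, hga, hlift, ← hs, map_mul, hu.comm, hτ, map_div₀]
  field_simp

theorem exists_semi_pow {θ : MulAut (CM hu)} {τ : F ≃+* F}
    (hR : ∀ z : CM hu, kv (θ z).right = τ (kv z.right)) {C : F} (hC0 : C ≠ 0) (hC : σ C = C)
    (hZ : ∀ d hd, ∃ hd', θ (zC d hd) = zC (C * τ d) hd') (j : ℕ) :
    ∃ D : F, D ≠ 0 ∧ σ D = D ∧ (∀ z : CM hu, kv ((θ ^ j) z).right = (τ ^ j) (kv z.right)) ∧
      ∀ d hd, ∃ hd', (θ ^ j) (zC d hd) = zC (D * (τ ^ j) d) hd' := by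
  induction j with
  | zero =>
    refine ⟨1, one_ne_zero, map_one σ, fun z => by rw [pow_zero, pow_zero]; rfl, fun d hd =>
      ⟨by simpa using hd, ?_⟩⟩
    rw [pow_zero, MulAut.one_apply]
    exact congrArg inl (Heis.ext rfl (by simp [Heis.zc]))
  | succ j ih =>
    obtain ⟨D, hD0, hD, hR', hZ'⟩ := ih
    refine ⟨C * τ D, mul_ne_zero hC0 ((map_ne_zero τ).2 hD0), by rw [map_mul, hC, ← hu.comm, hD],
      fun z => by rw [pow_succ', pow_succ', MulAut.mul_apply, hR, hR']; rfl, fun d hd => ?_⟩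
    obtain ⟨h1, h2⟩ := hZ' d hd
    obtain ⟨h3, h4⟩ := hZ _ h1
    have e : C * τ (D * (τ ^ j) d) = C * τ D * (τ ^ (j + 1)) d := by
      rw [map_mul, mul_assoc, pow_succ']; rfl
    refine ⟨e ▸ h3, ?_⟩
    rw [pow_succ', MulAut.mul_apply, h2, h4]
    exact congrArg inl (Heis.ext rfl e)

theorem mul_lt_pow_sub_one {w : ℕ} (hw : 2 ≤ w) : ∀ e, 2 ≤ e → e * (w - 1) < w ^ e - 1 := by
  intro e he
  induction e, he using Nat.le_induction with
  | base =>
    obtain ⟨v, rfl⟩ := Nat.exists_eq_add_of_le hw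
    have : (2 + v) ^ 2 = 4 + 4 * v + v * v := by ring
    omega
  | succ e he ih =>
    have h1 : 1 ≤ w ^ e := Nat.one_le_pow _ _ (by omega)
    have h2 : w ^ e + w ^ e * (w - 1) = w ^ (e + 1) := by
      obtain ⟨v, rfl⟩ := Nat.exists_eq_add_of_le hw
      rw [show 2 + v - 1 = 1 + v by omega]; ring
    have h3 : (w - 1) ≤ w ^ e * (w - 1) := Nat.le_mul_of_pos_left _ h1
    rw [Nat.succ_mul]
    omega

/-- A regular automorphism of order `q - 1` centralizes the quotient by the Sylow two-subgroup. -/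
theorem right_fixed {θ : MulAut (CM hu)} (h1 : θ ^ (q - 1) = 1)
    (h2 : ∀ j : ℕ, (∃ d hd, d ≠ 0 ∧ (θ ^ j) (zC d hd) = zC d hd) → q - 1 ∣ j) (z : CM hu) :
    (θ z).right = z.right := by
  classical
  obtain ⟨τ, C, hC0, hC, hR, hZ⟩ := exists_semi θ
  obtain ⟨μ₀, hμ₀⟩ : ∃ μ : KN σ, μ ≠ 1 := by
    by_contra hall
    push Not at hall
    have : Nat.card (KN σ) ≤ 1 := Finite.card_le_one_iff_subsingleton.2 ⟨fun a b => by rw [hall a, hall b]⟩
    rw [card_KN hu] at this
    have := hu.one_lt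
    omega
  have hm := moved_of_norm_one hu hμ₀
  have hτN : τ ^ (q - 1) = 1 := by
    obtain ⟨D, hD0, hD, hR', hZ'⟩ := exists_semi_pow hR hC0 hC hZ (q - 1)
    have hfix : ∀ d (hd : σ d = d), D * (τ ^ (q - 1)) d = d := fun d hd => by
      obtain ⟨_, h⟩ := hZ' d hd
      rw [h1, MulAut.one_apply] at h
      exact (zC_inj h).symm
    have hD1 : D = 1 := by simpa using hfix 1 (map_one σ)
    refine eq_of_agree hu (fun d hd => by simpa [hD1] using hfix d hd) hm ?_
    have := hR' (inr μ₀)
    rw [h1, MulAut.one_apply, SemidirectProduct.right_inr] at this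
    exact this.symm
  let K := fixField σ
  let T : K →+* K := ((τ : F →+* F).comp K.subtype).codRestrict K fun x => by
    show σ (τ x.1) = τ x.1
    rw [← hu.comm, Heis.fixed x]
  have hTinj : Function.Injective T := fun a b h => Subtype.ext (τ.injective (congrArg Subtype.val h))
  have : Finite K := Finite.of_injective _ Subtype.val_injective
  let Te : RingAut K := RingEquiv.ofBijective T ⟨hTinj, Finite.injective_iff_surjective.1 hTinj⟩
  have hTpow : ∀ j (x : K), ((Te ^ j) x : F) = (τ ^ j) (x : F) := fun j => by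
    induction j with
    | zero => intro x; rfl
    | succ j ih => intro x; rw [pow_succ', pow_succ']; show τ ((Te ^ j) x : F) = τ ((τ ^ j) x); rw [ih]
  have : Finite (RingAut K) := Finite.of_injective (fun s : RingAut K => (s : K → K)) DFunLike.coe_injective
  haveI := Fintype.ofFinite (Subgroup.zpowers Te)
  let W := FixedPoints.subfield (Subgroup.zpowers Te) K
  haveI : Fintype W := Fintype.ofFinite W
  have hqW : q = Nat.card W ^ orderOf Te := by
    rw [← Nat.card_zpowers, Nat.card_eq_fintype_card (α := Subgroup.zpowers Te),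
      ← FixedPoints.finrank_eq_card (Subgroup.zpowers Te) K, ← Module.natCard_eq_pow_finrank]
    exact hu.card_fix.symm
  set e := orderOf Te with he
  obtain ⟨D, hD0, hD, -, hZ'⟩ := exists_semi_pow hR hC0 hC hZ e
  have hτe : ∀ d (hd : σ d = d), (τ ^ e) d = d := fun d hd => by
    have := hTpow e ⟨d, hd⟩
    rw [he, pow_orderOf_eq_one] at this
    exact this.symm
  have hτD : τ D = D := by
    obtain ⟨ha, ha'⟩ := hZ 1 (map_one σ)
    obtain ⟨hb, hb'⟩ := hZ' _ ha
    obtain ⟨hc, hc'⟩ := hZ' 1 (map_one σ)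
    obtain ⟨hd, hd'⟩ := hZ _ hc
    have h3 : (θ ^ e) (θ (zC 1 (map_one σ))) = θ ((θ ^ e) (zC 1 (map_one σ))) := by
      rw [← MulAut.mul_apply, ← MulAut.mul_apply, ← pow_succ, ← pow_succ']
    rw [ha', hb', hc', hd'] at h3
    have h4 := zC_inj h3
    rw [hτe _ ha, map_one, map_one, mul_one, mul_one, mul_comm D] at h4
    exact (mul_left_cancel₀ hC0 h4).symm
  have hDW : (⟨D, hD⟩ : K) ∈ W := fun g => by
    have hfix1 : Te ⟨D, hD⟩ = ⟨D, hD⟩ := Subtype.ext hτD
    have : (g : RingAut K) ∈ MulAction.stabilizer (RingAut K) (⟨D, hD⟩ : K) :=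
      (Subgroup.zpowers_le.2 (show Te ∈ MulAction.stabilizer (RingAut K) (⟨D, hD⟩ : K) from hfix1)) g.2
    exact this
  have hDpow : D ^ (Nat.card W - 1) = 1 := by
    have h3 := FiniteField.pow_card_sub_one_eq_one (⟨⟨D, hD⟩, hDW⟩ : W) fun h =>
      hD0 (congrArg (fun x : W => ((x : K) : F)) h)
    rw [← Nat.card_eq_fintype_card] at h3
    exact congrArg (fun x : W => ((x : K) : F)) h3
  have hpow : ∀ i d (hd : σ d = d), ∃ hd', (θ ^ (e * i)) (zC d hd) = zC (D ^ i * d) hd' := fun i => by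
    induction i with
    | zero =>
      intro d hd
      refine ⟨by simpa using hd, ?_⟩
      rw [mul_zero, pow_zero, MulAut.one_apply]
      exact congrArg inl (Heis.ext rfl (by simp [Heis.zc]))
    | succ i ih =>
      intro d hd
      obtain ⟨h3, h4⟩ := ih d hd
      obtain ⟨h5, h6⟩ := hZ' _ h3
      have e2 : D * (τ ^ e) (D ^ i * d) = D ^ (i + 1) * d := by rw [hτe _ h3]; ring
      refine ⟨e2 ▸ h5, ?_⟩
      rw [show e * (i + 1) = e + e * i by ring, pow_add, MulAut.mul_apply, h4, h6]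
      exact congrArg inl (Heis.ext rfl e2)
  have hdiv : q - 1 ∣ e * (Nat.card W - 1) := h2 _ ⟨1, map_one σ, one_ne_zero, by
    obtain ⟨h3, h4⟩ := hpow (Nat.card W - 1) 1 (map_one σ)
    rw [h4]
    exact congrArg inl (Heis.ext rfl (show D ^ (Nat.card W - 1) * 1 = 1 by rw [hDpow, mul_one]))⟩
  have he1 : e = 1 := by
    have hw : 2 ≤ Nat.card W := Finite.one_lt_card
    have hep : 0 < e := orderOf_pos _
    by_contra hne
    have h3 := mul_lt_pow_sub_one hw e (by omega)
    rw [← hqW] at h3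
    have h4 := Nat.le_of_dvd (Nat.mul_pos hep (by omega)) hdiv
    omega
  have hτK : ∀ d, σ d = d → τ d = d := fun d hd => by simpa [he1] using hτe d hd
  have hτ2 : τ ^ 2 = 1 := by
    refine eq_of_agree hu (fun d hd => by rw [pow_two, RingAut.mul_apply, hτK d hd, hτK d hd]) hm ?_
    set μ := kv μ₀ with hμ
    have h3 : τ μ * σ (τ μ) = 1 := by rw [← hu.comm, ← map_mul, kv_norm, map_one]
    have h4 : τ μ + σ (τ μ) = μ + σ μ := by
      rw [← hu.comm, ← map_add]
      exact hτK _ (by rw [map_add, hu.invol, add_comm])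
    have h5 : (τ μ + μ) * (τ μ + σ μ) = 0 := by
      linear_combination τ μ * h4.symm + h3.symm * (1 : F) + kv_norm μ₀ + CharTwo.add_self_eq_zero (τ μ * τ μ)
        + CharTwo.add_self_eq_zero (τ μ * σ (τ μ))
    rw [pow_two, RingAut.mul_apply]
    rcases mul_eq_zero.1 h5 with h6 | h6 <;> rw [CharTwo.add_eq_zero] at h6
    · rw [h6, h6]
    · rw [h6, hu.comm, h6, hu.invol]
  have hτ1 : τ = 1 := by
    obtain ⟨m, hm'⟩ := (Nat.Even.sub_odd (by have := hu.one_lt; omega) (even_q hu) odd_one)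
    rwa [hm', pow_succ, pow_mul, hτ2, one_pow, one_mul] at hτN
  refine Subtype.ext (Units.ext ?_)
  show kv (θ z).right = kv z.right
  rw [hR, hτ1]
  rfl

end Cfsg.Agent.PGU3Rec
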