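import Cfsg.Agent.PGU3Rec.Rigid
import Cfsg.Agent.Invol.SEPairs

/-! # Groups with the centralizer of an involution of PGU₃: the strongly embedded subgroup -/

set_option autoImplicit false

namespace Cfsg.Agent.PGU3Rec

open Cfsg.Agent.AutPSU Cfsg.Agent.PSU3Sylow Classical.Herm SemidirectProduct

/-- The hypotheses, with a base involution. -/
structure Ctx {F : Type*} [Field F] [CharP F 2] {σ : F →+* F} {q : ℕ} (hu : UCtx σ q)
    (G : Type*) [Group G] where
  /-- the involution -/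
  x : G
  hx : orderOf x = 2
  /-- its centralizer -/
  e : ↥(Subgroup.centralizer ({x} : Set G)) ≃* CM hu
  hconj : ∀ s t : G, orderOf s = 2 → orderOf t = 2 → IsConj s t
  hS : ∀ P : Sylow 2 G, ¬ (P : Subgroup G).Normal
  hq : 2 < q

variable {F : Type*} [Field F] [CharP F 2] {σ : F →+* F} {q : ℕ} {hu : UCtx σ q}
  {G : Type*} [Group G]

namespace Ctx

variable (c : Ctx hu G)

/-- The centralizer. -/
abbrev C : Subgroup G := Subgroup.centralizer ({c.x} : Set G)

/-- Its Sylow two-subgroup. -/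
def P : Subgroup G := ((inl (φ := rot hu)).range.map c.e.symm.toMonoidHom).map c.C.subtype

/-- The strongly embedded subgroup. -/
def H : Subgroup G := Subgroup.normalizer (c.C : Set G)

theorem P_le : c.P ≤ c.C := Subgroup.map_subtype_le _

theorem C_le : c.C ≤ c.H := Subgroup.le_normalizer

theorem coe_mem_P (z : ↥c.C) : (z : G) ∈ c.P ↔ (c.e z).right = 1 := by
  constructor
  · rintro ⟨w, ⟨_, ⟨a, rfl⟩, rfl⟩, hw⟩
    rw [← Subtype.ext hw]
    simp
  · intro h
    refine ⟨z, ⟨inl (c.e z).left, ⟨_, rfl⟩, ?_⟩, rfl⟩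
    show c.e.symm (inl (c.e z).left) = z
    rw [show inl (c.e z).left = c.e z from SemidirectProduct.ext rfl h.symm, MulEquiv.symm_apply_apply]

theorem card_P [Fintype F] : Nat.card c.P = q ^ 3 := by
  rw [P, Subgroup.card_map_of_injective c.C.subtype_injective,
    Subgroup.card_map_of_injective (f := c.e.symm.toMonoidHom) c.e.symm.injective,
    ← Nat.card_congr (MonoidHom.ofInjective (inl_injective (φ := rot hu))).toEquiv, Heis.card_eq]

variable [Fintype F]

theorem card_C : Nat.card c.C = q ^ 3 * (q + 1) := by rw [Nat.card_congr c.e.toEquiv, card_CM]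

theorem mem_P_iff {g : G} : g ∈ c.P ↔ g ∈ c.C ∧ g ^ (q ^ 3) = 1 := by
  constructor
  · intro hg
    refine ⟨c.P_le hg, ?_⟩
    have h := (right_eq_one_iff _).1 ((c.coe_mem_P ⟨g, c.P_le hg⟩).1 hg)
    rw [← map_pow, MulEquiv.map_eq_one_iff] at h
    exact congrArg Subtype.val h
  · rintro ⟨hg, hp⟩
    refine (c.coe_mem_P ⟨g, hg⟩).2 ((right_eq_one_iff _).2 ?_)
    rw [← map_pow, MulEquiv.map_eq_one_iff]
    exact Subtype.ext hp

theorem invol_central {s : G} (hs : s * s = 1) (hsC : s ∈ c.C) :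
    s ∈ c.P ∧ ∀ z ∈ c.C, s * z = z * s := by
  have h : c.e ⟨s, hsC⟩ * c.e ⟨s, hsC⟩ = 1 := by
    rw [← map_mul, MulEquiv.map_eq_one_iff]; exact Subtype.ext hs
  refine ⟨(c.coe_mem_P ⟨s, hsC⟩).2 ((mul_self_eq_one_iff _).1 h).1, fun z hz => ?_⟩
  obtain ⟨d, hd, he⟩ := exists_zC_of_mul_self h
  have h1 : c.e (⟨s, hsC⟩ * ⟨z, hz⟩) = c.e (⟨z, hz⟩ * ⟨s, hsC⟩) := by
    rw [map_mul, map_mul, he, zC_commute]
  exact congrArg Subtype.val (c.e.injective h1)

/-- The involutions commuting with the base involution. -/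
abbrev Z := {s : G // orderOf s = 2 ∧ s ∈ c.C}

theorem x_mem : c.x ∈ c.C := Subgroup.mem_centralizer_singleton_iff.2 rfl

theorem card_Z : Nat.card c.Z = q - 1 := by
  have h1 : ∀ s : c.Z, ∃ d hd, d ≠ 0 ∧ c.e ⟨s.1, s.2.2⟩ = zC d hd := fun s => by
    obtain ⟨d, hd, he⟩ := exists_zC_of_mul_self (z := c.e ⟨s.1, s.2.2⟩) (by
      rw [← map_mul, MulEquiv.map_eq_one_iff]; exact Subtype.ext (Invol.mul_self_eq_one s.2.1))
    refine ⟨d, hd, fun h => ?_, he⟩
    rw [zC_eq_one.2 h, MulEquiv.map_eq_one_iff] at he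
    exact Invol.ne_one s.2.1 (congrArg Subtype.val he)
  choose d hd hd0 he using h1
  have : Finite (fixField σ) := Finite.of_injective _ Subtype.val_injective
  have hbij : Function.Bijective (fun s : c.Z => (⟨⟨d s, hd s⟩, fun h => hd0 s (congrArg Subtype.val h)⟩ :
      {x : fixField σ // x ≠ 0})) := by
    refine ⟨fun s t h => ?_, fun y => ?_⟩
    · have h' : d s = d t := congrArg (fun y : {x : fixField σ // x ≠ 0} => (y.1 : F)) h
      have h2 : c.e ⟨s.1, s.2.2⟩ = c.e ⟨t.1, t.2.2⟩ := by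
        rw [he, he]; exact congrArg inl (Heis.ext rfl h')
      exact Subtype.ext (congrArg (fun z : ↥c.C => (z : G)) (c.e.injective h2))
    · set z := c.e.symm (zC (y.1 : F) y.1.2) with hz
      have hne : z ≠ 1 := fun h => y.2 (Subtype.ext (zC_eq_one.1
        (((c.e.apply_symm_apply (zC (y.1 : F) y.1.2)).symm.trans (congrArg c.e h)).trans (map_one c.e))))
      have hzz : z * z = 1 := by
        rw [hz, ← map_mul, (mul_self_eq_one_iff _).2 ⟨rfl, rfl⟩, map_one]
      have ho : orderOf (z : G) = 2 := by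
        rw [Subgroup.orderOf_coe]; exact orderOf_eq_prime (by rw [pow_two, hzz]) hne
      refine ⟨⟨z, ho, z.2⟩, Subtype.ext (Subtype.ext (zC_inj (hu := hu) (hd := hd _) (hd' := y.1.2) ?_))⟩
      rw [← he]
      exact c.e.apply_symm_apply _
  haveI := Fintype.ofFinite (fixField σ)
  classical
  rw [Nat.card_congr (Equiv.ofBijective _ hbij), Nat.card_eq_fintype_card, Fintype.card_subtype_compl,
    Fintype.card_subtype_eq, ← Nat.card_eq_fintype_card, hu.card_fix]

variable [Finite G]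

theorem centralizer_eq {s : G} (hs : orderOf s = 2) (hsC : s ∈ c.C) :
    Subgroup.centralizer ({s} : Set G) = c.C := by
  refine (Subgroup.eq_of_le_of_card_ge (fun z hz => Subgroup.mem_centralizer_singleton_iff.2
    ((c.invol_central (Invol.mul_self_eq_one hs) hsC).2 z hz).symm) ?_).symm
  obtain ⟨g, hg⟩ := isConj_iff.1 (c.hconj c.x s c.hx hs)
  have hle : (Subgroup.centralizer ({s} : Set G)).map (MulAut.conj g⁻¹).toMonoidHom ≤ c.C := by
    rintro _ ⟨z, hz, rfl⟩
    rw [Subgroup.mem_centralizer_singleton_iff]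
    show g⁻¹ * z * g⁻¹⁻¹ * c.x = c.x * (g⁻¹ * z * g⁻¹⁻¹)
    rw [inv_inv]
    have h := Subgroup.mem_centralizer_singleton_iff.1 hz
    rw [← hg] at h
    calc g⁻¹ * z * g * c.x = g⁻¹ * (z * (g * c.x * g⁻¹)) * g := by group
      _ = c.x * (g⁻¹ * z * g) := by rw [h]; group
  exact (Subgroup.card_map_of_injective (MulAut.conj g⁻¹).injective).ge.trans (Subgroup.card_le_of_le hle)

theorem mem_H_iff {g : G} : g ∈ c.H ↔ g * c.x * g⁻¹ ∈ c.C := by
  refine ⟨fun h => (Subgroup.mem_normalizer_iff.1 h _).1 c.x_mem, fun h => ?_⟩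
  have heq := c.centralizer_eq ((Invol.orderOf_conj g c.x).trans c.hx) h
  refine Subgroup.mem_normalizer_iff.2 fun z => ?_
  show z ∈ c.C ↔ g * z * g⁻¹ ∈ c.C
  conv_rhs => rw [← heq, Subgroup.mem_centralizer_singleton_iff]
  rw [Subgroup.mem_centralizer_singleton_iff]
  constructor
  · intro hz
    calc g * z * g⁻¹ * (g * c.x * g⁻¹) = g * (z * c.x) * g⁻¹ := by group
      _ = g * c.x * g⁻¹ * (g * z * g⁻¹) := by rw [hz]; group
  · intro hz
    calc z * c.x = g⁻¹ * (g * z * g⁻¹ * (g * c.x * g⁻¹)) * g := by group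
      _ = c.x * z := by rw [hz]; group

theorem mem_H_of_mem {g : G} {s : G} (hs : orderOf s = 2) (hsC : s ∈ c.C) (h : g * s * g⁻¹ ∈ c.C) : g ∈ c.H := by
  refine Subgroup.mem_normalizer_iff.2 fun z => ?_
  show z ∈ c.C ↔ g * z * g⁻¹ ∈ c.C
  conv_rhs => rw [← c.centralizer_eq ((Invol.orderOf_conj g s).trans hs) h, Subgroup.mem_centralizer_singleton_iff]
  conv_lhs => rw [← c.centralizer_eq hs hsC, Subgroup.mem_centralizer_singleton_iff]
  constructor
  · intro hz
    calc g * z * g⁻¹ * (g * s * g⁻¹) = g * (z * s) * g⁻¹ := by group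
      _ = g * s * g⁻¹ * (g * z * g⁻¹) := by rw [hz]; group
  · intro hz
    calc z * s = g⁻¹ * (g * z * g⁻¹ * (g * s * g⁻¹)) * g := by group
      _ = s * z := by rw [hz]; group

theorem relIndex_C : c.C.relIndex c.H = q - 1 := by
  rw [← c.card_Z]
  show Nat.card (↥c.H ⧸ c.C.subgroupOf c.H) = _
  let f : ↥c.H → c.Z := fun g => ⟨(g : G) * c.x * (g : G)⁻¹, (Invol.orderOf_conj _ _).trans c.hx, c.mem_H_iff.1 g.2⟩
  have key : ∀ a b : ↥c.H, f a = f b ↔ a⁻¹ * b ∈ c.C.subgroupOf c.H := fun a b => by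
    rw [Subtype.ext_iff, Subgroup.mem_subgroupOf, Subgroup.mem_centralizer_singleton_iff]
    show (a : G) * c.x * (a : G)⁻¹ = (b : G) * c.x * (b : G)⁻¹ ↔ _
    push_cast
    constructor
    · intro h
      calc (a : G)⁻¹ * b * c.x = (a : G)⁻¹ * ((b : G) * c.x * (b : G)⁻¹) * b := by group
        _ = c.x * ((a : G)⁻¹ * b) := by rw [← h]; group
    · intro h
      calc (a : G) * c.x * (a : G)⁻¹ = (a : G) * (c.x * ((a : G)⁻¹ * b)) * (b : G)⁻¹ := by group
        _ = (b : G) * c.x * (b : G)⁻¹ := by rw [← h]; group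
  refine Nat.card_congr (Equiv.ofBijective (Quotient.lift f fun a b h => (key a b).2
    (QuotientGroup.leftRel_apply.1 h)) ⟨fun a b => ?_, fun s => ?_⟩)
  · induction a using Quotient.inductionOn
    induction b using Quotient.inductionOn
    exact fun h => Quotient.sound (QuotientGroup.leftRel_apply.2 ((key _ _).1 h))
  · obtain ⟨g, hg⟩ := isConj_iff.1 (c.hconj c.x s.1 c.hx s.2.1)
    exact ⟨QuotientGroup.mk (⟨g, c.mem_H_iff.2 (hg ▸ s.2.2)⟩ : ↥c.H), Subtype.ext hg⟩

theorem card_H : Nat.card c.H = q ^ 3 * (q + 1) * (q - 1) := by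
  rw [← c.relIndex_C, ← c.card_C, ← (c.C.subgroupOf c.H).card_mul_index,
    Nat.card_congr (Subgroup.subgroupOfEquivOfLe c.C_le).toEquiv]
  rfl

include c in
theorem odd_sub : Odd (q - 1) := Nat.Even.sub_odd (by have := c.hq; omega) (even_q hu) odd_one

theorem pow_mem_C {g : G} (hg : g ∈ c.H) : g ^ (q - 1) ∈ c.C := by
  have : (c.C.subgroupOf c.H).Normal := Subgroup.normal_in_normalizer
  have h := (c.C.subgroupOf c.H).pow_index_mem ⟨g, hg⟩
  rwa [show (c.C.subgroupOf c.H).index = q - 1 from c.relIndex_C, Subgroup.mem_subgroupOf] at h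

theorem invol_mem_C {t : G} (ht : orderOf t = 2) (htH : t ∈ c.H) : t ∈ c.C := by
  have h := c.pow_mem_C htH
  obtain ⟨m, hm⟩ := c.odd_sub
  rwa [hm, pow_succ, pow_mul, pow_two, Invol.mul_self_eq_one ht, one_pow, one_mul] at h

theorem invol_mem_P {t : G} (ht : orderOf t = 2) (htH : t ∈ c.H) : t ∈ c.P :=
  (c.invol_central (Invol.mul_self_eq_one ht) (c.invol_mem_C ht htH)).1

theorem conj_mem_P {g z : G} (hg : g ∈ c.H) (hz : z ∈ c.P) : g * z * g⁻¹ ∈ c.P := by
  rw [mem_P_iff] at hz ⊢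
  exact ⟨(Subgroup.mem_normalizer_iff.1 hg _).1 hz.1, by rw [conj_pow, hz.2, mul_one, mul_inv_cancel]⟩

theorem isPGroup_P : IsPGroup 2 c.P := by
  obtain ⟨k, -, hk⟩ := FiniteField.card F 2
  rw [hu_card hu] at hk
  obtain ⟨m, -, hm⟩ := (Nat.dvd_prime_pow Nat.prime_two).1 (Dvd.intro q ((pow_two q).symm.trans hk))
  exact IsPGroup.of_card (n := m * 3) (by rw [c.card_P, hm, ← pow_mul])

theorem H_ne_top : c.H ≠ ⊤ := by
  intro h
  have : Fact (Nat.Prime 2) := ⟨Nat.prime_two⟩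
  have hidx : ¬ 2 ∣ c.P.index := by
    intro hd
    have h1 := c.P.card_mul_index
    have hG : Nat.card G = q ^ 3 * ((q + 1) * (q - 1)) := by
      rw [← Subgroup.card_top (G := G), ← h, c.card_H, mul_assoc]
    rw [c.card_P, hG] at h1
    have h2 : c.P.index = (q + 1) * (q - 1) :=
      Nat.eq_of_mul_eq_mul_left (pow_pos (by have := c.hq; omega) 3) h1
    rw [h2] at hd
    exact (Nat.not_even_iff_odd.2 ((even_q hu).add_one.mul c.odd_sub)) (even_iff_two_dvd.2 hd)
  refine c.hS (c.isPGroup_P.toSylow hidx) ?_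
  exact ⟨fun z hz g => c.conj_mem_P (h ▸ Subgroup.mem_top g) hz⟩

theorem se : Cfsg.IsStronglyEmbedded c.H := by
  refine (Invol.se_iff _).2 ⟨c.H_ne_top, ?_, fun t g ht htH htg => ?_⟩
  · rw [c.card_H]
    exact (((Nat.even_pow).2 ⟨even_q hu, by norm_num⟩).mul_right _).mul_right _
  · have h1 := c.invol_mem_C ht htH
    have h2 : g⁻¹ * t * g⁻¹⁻¹ ∈ c.C := by
      rw [inv_inv]
      refine c.invol_mem_C ?_ htg
      have := (Invol.orderOf_conj g⁻¹ t).trans ht
      rwa [inv_inv] at this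
    exact inv_mem_iff.1 (c.mem_H_of_mem ht h1 h2)

end Ctx

end Cfsg.Agent.PGU3Rec
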