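import Cfsg.Agent.PGU3Rec.Count
import Mathlib.GroupTheory.GroupAction.MultipleTransitivity

/-! # Double transitivity on the cosets of the strongly embedded subgroup -/

set_option autoImplicit false

namespace Cfsg.Agent.PGU3Rec

open Cfsg.Agent.AutPSU Cfsg.Agent.PSU3Sylow Classical.Herm SemidirectProduct

variable {F : Type*} [Field F] [CharP F 2] {σ : F →+* F} {q : ℕ} {hu : UCtx σ q}
  {G : Type*} [Group G] [Fintype F] [Finite G]

namespace Ctx

variable (c : Ctx hu G) {u : G}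

include c in
theorem coprime_sub_cube : Nat.Coprime (q - 1) (q ^ 3) := by
  refine Nat.Coprime.pow_right 3 ?_
  have := c.hq
  obtain ⟨m, rfl⟩ : ∃ m, q = m + 1 := ⟨q - 1, by omega⟩
  simp

include c in
theorem eq_one_of_commute {t s : G} (ht : t ^ (q - 1) = 1) (hs : orderOf s = 2) (h : t * s = s * t) : t = 1 := by
  refine eq_one_of_pow_coprime (c.coprime_sub_cube.mul_right c.coprime_sub_add) ht ?_
  obtain ⟨g, hg⟩ := isConj_iff.1 (c.hconj c.x s c.hx hs)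
  have hmem : g⁻¹ * t * g ∈ c.C := by
    rw [Subgroup.mem_centralizer_singleton_iff]
    rw [← hg] at h
    calc g⁻¹ * t * g * c.x = g⁻¹ * (t * (g * c.x * g⁻¹)) * g := by group
      _ = c.x * (g⁻¹ * t * g) := by rw [h]; group
  have h1 : (g⁻¹ * t * g) ^ (q ^ 3 * (q + 1)) = 1 := by
    rw [← c.card_C]
    exact congrArg Subtype.val (pow_card_eq_one' (x := (⟨_, hmem⟩ : ↥c.C)))
  have h2 : (g⁻¹ * t * g⁻¹⁻¹) ^ (q ^ 3 * (q + 1)) = 1 := by rwa [inv_inv]
  rw [conj_pow] at h2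
  exact conj_eq_one_iff.1 h2

theorem P_fpf {t y : G} (ht : t ^ (q - 1) = 1) (ht1 : t ≠ 1) (hy : y ∈ c.P) (h : t * y = y * t) : y = 1 := by
  by_contra hne
  obtain ⟨s, hs, hs2⟩ := Invol.exists_involution_of_ne_bot (c.isPGroup_P.to_le
    (Subgroup.zpowers_le.2 hy)) (Subgroup.zpowers_ne_bot.2 hne)
  obtain ⟨k, rfl⟩ := Subgroup.mem_zpowers_iff.1 hs
  exact ht1 (c.eq_one_of_commute ht hs2 ((show Commute t y from h).zpow_right k).eq)

theorem eq_one_of_P_pow {t : G} (ht : t ^ (q - 1) = 1) (hP : t ∈ c.P) : t = 1 :=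
  eq_one_of_pow_coprime c.coprime_sub_cube ht (c.mem_P_iff.1 hP).2

theorem exists_conj {t p : G} (htH : t ∈ c.H) (ht : t ^ (q - 1) = 1) (ht1 : t ≠ 1) (hp : p ∈ c.P) :
    ∃ v ∈ c.P, v * t * v⁻¹ * t⁻¹ = p := by
  let f : ↥c.P → ↥c.P := fun v => ⟨v.1 * (t * v.1⁻¹ * t⁻¹), mul_mem v.2 (c.conj_mem_P htH (inv_mem v.2))⟩
  have hf : Function.Injective f := fun v w hvw => by
    have h : v.1 * (t * v.1⁻¹ * t⁻¹) = w.1 * (t * w.1⁻¹ * t⁻¹) := congrArg Subtype.val hvw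
    have h1 : t * (w.1⁻¹ * v.1) = (w.1⁻¹ * v.1) * t := by
      calc t * (w.1⁻¹ * v.1) = w.1⁻¹ * (w.1 * (t * w.1⁻¹ * t⁻¹)) * t * v.1 := by group
        _ = (w.1⁻¹ * v.1) * t := by rw [← h]; group
    exact Subtype.ext (inv_mul_eq_one.1 (c.P_fpf ht ht1 (mul_mem (inv_mem w.2) v.2) h1)).symm
  obtain ⟨v, hv⟩ := Finite.injective_iff_surjective.1 hf ⟨p, hp⟩
  refine ⟨v.1, v.2, ?_⟩
  have h : v.1 * (t * v.1⁻¹ * t⁻¹) = p := congrArg Subtype.val hv
  rw [← h]
  group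

theorem fix_unique {i : G} (hi : orderOf i = 2) {p r : G ⧸ c.H} (hp : i • p = p) (hr : i • r = r) : p = r := by
  induction p using QuotientGroup.induction_on with
  | H g =>
    induction r using QuotientGroup.induction_on with
    | H k =>
      rw [MulAction.Quotient.smul_mk, smul_eq_mul, QuotientGroup.eq, mul_inv_rev, Invol.inv_eq_self hi] at hp hr
      refine QuotientGroup.eq.2 (Invol.se_mem c.se ((Invol.orderOf_conj g⁻¹ i).trans hi)
        (by rwa [inv_inv]) ?_)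
      simpa [mul_assoc] using hr

theorem exists_swap {p r : G ⧸ c.H} (h : p ≠ r) : ∃ w : G, orderOf w = 2 ∧ w • p = r ∧ w • r = p := by
  induction p using QuotientGroup.induction_on with
  | H g =>
    have hne : g⁻¹ • r ≠ c.base := fun he => h (by
      rw [← smul_inv_smul g r, he, MulAction.Quotient.smul_mk, smul_eq_mul, mul_one])
    have h1 := Invol.card_involutions_coset c.se hne
    have h2 : 0 < Nat.card {t : G // orderOf t = 2 ∧ t ∈ c.H} := by
      have : Nonempty {t : G // orderOf t = 2 ∧ t ∈ c.H} := ⟨⟨c.x, c.hx, c.C_le c.x_mem⟩⟩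
      exact Nat.card_pos
    rw [← h1] at h2
    obtain ⟨⟨i, hi, hir⟩⟩ := (Nat.card_pos_iff.1 h2).1
    have e : g • c.base = (QuotientGroup.mk g : G ⧸ c.H) := by
      rw [MulAction.Quotient.smul_mk, smul_eq_mul, mul_one]
    refine ⟨g * i * g⁻¹, (Invol.orderOf_conj g i).trans hi, ?_, ?_⟩
    · rw [← e, mul_smul, mul_smul, inv_smul_smul, hir, smul_inv_smul]
    · rw [← e, mul_smul, mul_smul, ← hir, ← mul_smul i, Invol.mul_self_eq_one hi, one_smul]

/-- Points fixed by the distinguished subgroup of a two-point stabilizer. -/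
def fixT (hu2 : orderOf u = 2) (huH : u ∉ c.H) : Set (G ⧸ c.H) := {r | ∀ t ∈ c.T hu2 huH, t • r = r}

theorem base_mem (hu2 : orderOf u = 2) (huH : u ∉ c.H) : c.base ∈ c.fixT hu2 huH :=
  fun _ ht => c.mem_H_iff_smul.1 ht.1.1

theorem image_mem (hu2 : orderOf u = 2) (huH : u ∉ c.H) : u • c.base ∈ c.fixT hu2 huH :=
  fun _ ht => MulAction.mem_stabilizer_iff.1 ht.1.2

theorem swap_inverts (hu2 : orderOf u = 2) (huH : u ∉ c.H) {w : G} (hw : orderOf w = 2) {r : G ⧸ c.H}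
    (hr : r ∈ c.fixT hu2 huH) (hr' : w • r ∈ c.fixT hu2 huH) (hne : w • r ≠ r) {t : G} (ht : t ∈ c.T hu2 huH) :
    w * t * w = t⁻¹ := by
  induction r using QuotientGroup.induction_on with
  | H g =>
    have e : g • c.base = (QuotientGroup.mk g : G ⧸ c.H) := by
      rw [MulAction.Quotient.smul_mk, smul_eq_mul, mul_one]
    set w' := g⁻¹ * w * g with hw'
    have hw'2 : orderOf w' = 2 := by
      have := (Invol.orderOf_conj g⁻¹ w).trans hw
      rwa [inv_inv] at this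
    have hw'b : w' • c.base = g⁻¹ • w • (QuotientGroup.mk g : G ⧸ c.H) := by
      rw [hw', mul_smul, mul_smul, e]
    have hw'H : w' ∉ c.H := fun hm => hne (by
      have := c.mem_H_iff_smul.1 hm
      rw [hw'b, inv_smul_eq_iff, e] at this
      exact this)
    have hmem : g⁻¹ * t * g ∈ c.T hw'2 hw'H := by
      refine ⟨Subgroup.mem_inf.2 ⟨c.mem_H_iff_smul.2 ?_, MulAction.mem_stabilizer_iff.2 ?_⟩, ?_⟩
      · rw [mul_smul, mul_smul, e, hr t ht, ← e, inv_smul_smul]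
      · rw [hw'b, mul_smul, mul_smul, smul_inv_smul, hr' t ht]
      · have := conj_pow (a := g⁻¹) (b := t) (i := q - 1)
        rw [inv_inv, ht.2, mul_one, inv_mul_cancel] at this
        exact this
    have h2 := ((c.mem_inverted_iff hw'2 hw'H).2 hmem).2
    rw [Invol.inv_eq_self hw'2, hw'] at h2
    calc w * t * w = g * (g⁻¹ * w * g * (g⁻¹ * t * g) * (g⁻¹ * w * g)) * g⁻¹ := by group
      _ = t⁻¹ := by rw [h2]; group

theorem no_fixed (hu2 : orderOf u = 2) (huH : u ∉ c.H) {w : G} (hw : orderOf w = 2)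
    (hinv : ∀ t ∈ c.T hu2 huH, w * t * w = t⁻¹) {r : G ⧸ c.H} (hr : r ∈ c.fixT hu2 huH) : w • r ≠ r := by
  induction r using QuotientGroup.induction_on with
  | H g =>
    intro hwr
    have hT : 1 < Nat.card (c.T hu2 huH) := by rw [c.card_T]; have := c.hq; omega
    haveI := Finite.one_lt_card_iff_nontrivial.1 hT
    obtain ⟨⟨t, ht⟩, ht1⟩ := exists_ne (1 : c.T hu2 huH)
    have e : g • c.base = (QuotientGroup.mk g : G ⧸ c.H) := by
      rw [MulAction.Quotient.smul_mk, smul_eq_mul, mul_one]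
    have hmem : ∀ z : G, z • (QuotientGroup.mk g : G ⧸ c.H) = QuotientGroup.mk g → g⁻¹ * z * g ∈ c.H :=
      fun z hz => c.mem_H_iff_smul.2 (by rw [mul_smul, mul_smul, e, hz, ← e, inv_smul_smul])
    have hwH := hmem w hwr
    have htH := hmem t (hr t ht)
    have hwP := c.invol_mem_P (by have := (Invol.orderOf_conj g⁻¹ w).trans hw; rwa [inv_inv] at this) hwH
    have h3 := mul_mem hwP (c.conj_mem_P htH hwP)
    have e2 : g⁻¹ * w * g * (g⁻¹ * t * g * (g⁻¹ * w * g) * (g⁻¹ * t * g)⁻¹) = g⁻¹ * (t⁻¹ * t⁻¹) * g := by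
      calc _ = g⁻¹ * (w * t * w) * t⁻¹ * g := by group
        _ = _ := by rw [hinv t ht, mul_assoc g⁻¹]
    rw [e2] at h3
    have h4 := c.eq_one_of_P_pow (by
      have h5 : (g⁻¹ * (t⁻¹ * t⁻¹) * g⁻¹⁻¹) ^ (q - 1) = 1 := by
        rw [conj_pow, Commute.mul_pow (Commute.refl _), inv_pow, ht.2, inv_one, mul_one, mul_one, mul_inv_cancel]
      rwa [inv_inv] at h5) h3
    have h6 : t⁻¹ * t⁻¹ = 1 := by
      calc t⁻¹ * t⁻¹ = g * (g⁻¹ * (t⁻¹ * t⁻¹) * g) * g⁻¹ := by group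
        _ = 1 := by rw [h4]; group
    have h7 := pow_odd_eq_one (c.D_odd hu2 huH) (inv_mem ht.1) h6
    exact ht1 (Subtype.ext (inv_eq_one.1 h7))

theorem centralizer_fixes (hu2 : orderOf u = 2) (huH : u ∉ c.H) {z : G}
    (hz : ∀ t ∈ c.T hu2 huH, t * z = z * t) {r : G ⧸ c.H} (hr : r ∈ c.fixT hu2 huH) : z • r = r := by
  by_contra hne
  have hzr : z • r ∈ c.fixT hu2 huH := fun t ht => by rw [← mul_smul, hz t ht, mul_smul, hr t ht]
  obtain ⟨w, hw, hwr, hwr'⟩ := c.exists_swap (p := r) (r := z • r) (Ne.symm hne)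
  have hinv : ∀ t ∈ c.T hu2 huH, w * t * w = t⁻¹ := fun t ht =>
    c.swap_inverts hu2 huH hw hr (by rwa [hwr]) (by rwa [hwr]) ht
  set y := w * z with hy
  have hyr : y • r = r := by rw [hy, mul_smul, hwr']
  have hyinv : ∀ t ∈ c.T hu2 huH, y * t * y⁻¹ = t⁻¹ := fun t ht => by
    rw [hy, mul_inv_rev, Invol.inv_eq_self hw, show w * z * t * (z⁻¹ * w) = w * (z * t * z⁻¹) * w by group,
      ← hz t ht, mul_inv_cancel_right, hinv t ht]
  set S : Subgroup G := Subgroup.centralizer (c.T hu2 huH : Set G) with hS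
  have hy2S : y * y ∈ S := Subgroup.mem_centralizer_iff.2 fun t ht => by
    have h1 : y * y * t * (y * y)⁻¹ = t := by
      rw [show y * y * t * (y * y)⁻¹ = y * (y * t * y⁻¹) * y⁻¹ by group, hyinv t ht,
        show y * t⁻¹ * y⁻¹ = (y * t * y⁻¹)⁻¹ by group, hyinv t ht, inv_inv]
    exact (mul_inv_eq_iff_eq_mul.1 h1).symm
  have hT : 1 < Nat.card (c.T hu2 huH) := by rw [c.card_T]; have := c.hq; omega
  haveI := Finite.one_lt_card_iff_nontrivial.1 hT
  obtain ⟨⟨t, ht⟩, ht1⟩ := exists_ne (1 : c.T hu2 huH)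
  have hodd : Odd (orderOf (y * y)) := by
    rw [← Nat.not_even_iff_odd, even_iff_two_dvd]
    intro hd
    have hpos := orderOf_pos (y * y)
    have ho : orderOf ((y * y) ^ (orderOf (y * y) / 2)) = 2 :=
      orderOf_pow_orderOf_div hpos.ne' hd
    exact ht1 (Subtype.ext (c.eq_one_of_commute ht.2 ho
      (Subgroup.mem_centralizer_iff.1 (pow_mem hy2S _) t ht)))
  obtain ⟨m, hm⟩ := hodd
  set v := y ^ (2 * m + 1) with hv
  have hvinv : ∀ s ∈ c.T hu2 huH, v * s * v⁻¹ = s⁻¹ := fun s hs => by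
    have h1 : (y * y) ^ m * s * ((y * y) ^ m)⁻¹ = s := by
      rw [mul_inv_eq_iff_eq_mul]
      exact (Subgroup.mem_centralizer_iff.1 (pow_mem hy2S m) s hs).symm
    rw [hv, pow_succ', pow_mul, pow_two, show y * (y * y) ^ m * s * (y * (y * y) ^ m)⁻¹ =
      y * ((y * y) ^ m * s * ((y * y) ^ m)⁻¹) * y⁻¹ by group, h1, hyinv s hs]
  have hvv : v * v = 1 := by
    rw [hv, ← pow_add, ← two_mul, pow_mul, pow_two, ← hm, pow_orderOf_eq_one]
  have hv1 : v ≠ 1 := fun h1 => ht1 (Subtype.ext (by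
    have h2 := hvinv t ht
    rw [h1, one_mul, inv_one, mul_one] at h2
    exact pow_odd_eq_one (c.D_odd hu2 huH) ht.1 (mul_eq_one_iff_eq_inv.2 h2)))
  have hv2 : orderOf v = 2 := orderOf_eq_prime (by rw [pow_two, hvv]) hv1
  refine c.no_fixed hu2 huH hv2 (fun s hs => ?_) hr ?_
  · have := hvinv s hs
    rwa [Invol.inv_eq_self hv2] at this
  · rw [hv]
    exact MulAction.mem_stabilizer_iff.1 (pow_mem (MulAction.mem_stabilizer_iff.2 hyr) _)

theorem fixT_eq (hu2 : orderOf u = 2) (huH : u ∉ c.H) {r : G ⧸ c.H} (hr : r ∈ c.fixT hu2 huH)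
    (hne : r ≠ c.base) : r = u • c.base := by
  obtain ⟨w, hw, hwb, hwr⟩ := c.exists_swap (p := c.base) (r := r) hne.symm
  have hwi : ∀ t ∈ c.T hu2 huH, w * t * w = t⁻¹ := fun t ht =>
    c.swap_inverts hu2 huH hw (c.base_mem hu2 huH) (by rwa [hwb]) (by rwa [hwb]) ht
  have hz : ∀ t ∈ c.T hu2 huH, t * (u * w) = u * w * t := fun t ht => by
    have h1 : u * t⁻¹ * u = t := by
      have := ((c.mem_inverted_iff hu2 huH).2 (inv_mem ht : t⁻¹ ∈ c.T hu2 huH)).2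
      rwa [inv_inv, Invol.inv_eq_self hu2] at this
    calc t * (u * w) = (u * t⁻¹ * u) * (u * w) := by rw [h1]
      _ = u * (w * t * w) * (u * u) * w := by rw [hwi t ht]; group
      _ = u * w * t * (w * w) := by rw [Invol.mul_self_eq_one hu2]; group
      _ = u * w * t := by rw [Invol.mul_self_eq_one hw, mul_one]
  have h2 := c.centralizer_fixes hu2 huH hz hr
  rw [mul_smul, hwr] at h2
  exact h2.symm

theorem centralizer_T_le (hu2 : orderOf u = 2) (huH : u ∉ c.H) {z : G}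
    (hz : ∀ t ∈ c.T hu2 huH, t * z = z * t) : z ∈ c.D u :=
  Subgroup.mem_inf.2 ⟨c.mem_H_iff_smul.2 (c.centralizer_fixes hu2 huH hz (c.base_mem hu2 huH)),
    MulAction.mem_stabilizer_iff.2 (c.centralizer_fixes hu2 huH hz (c.image_mem hu2 huH))⟩

theorem conj_right_eq (hu2 : orderOf u = 2) (huH : u ∉ c.H) {t : G} (ht : t ∈ c.T hu2 huH)
    (hord : orderOf t = q - 1) {z : G} (hz : z ∈ c.C) : t * z * t⁻¹ * z⁻¹ ∈ c.P := by
  set tH : ↥c.H := ⟨t, ht.1.1⟩ with htH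
  set θ : MulAut (CM hu) := MulAut.congr c.e (c.conjC tH) with hθ
  have hθe : ∀ (j : ℕ) (y : ↥c.C), (θ ^ j) (c.e y) = c.e (c.conjC (tH ^ j) y) := fun j y => by
    rw [hθ, ← map_pow, ← map_pow]
    show c.e (c.conjC (tH ^ j) (c.e.symm (c.e y))) = _
    rw [MulEquiv.symm_apply_apply]
  have htH1 : tH ^ (q - 1) = 1 := Subtype.ext (by rw [SubgroupClass.coe_pow]; exact ht.2)
  have h1 : θ ^ (q - 1) = 1 := by rw [hθ, ← map_pow, ← map_pow, htH1, map_one, map_one]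
  have h2 : ∀ j : ℕ, (∃ d hd, d ≠ 0 ∧ (θ ^ j) (zC d hd) = zC d hd) → q - 1 ∣ j := by
    rintro j ⟨d, hd, hd0, hj⟩
    set y := c.e.symm (zC d hd) with hy
    have hey : c.e y = zC d hd := c.e.apply_symm_apply _
    rw [← hey, hθe] at hj
    have hj' : t ^ j * (y : G) * (t ^ j)⁻¹ = (y : G) := congrArg Subtype.val (c.e.injective hj)
    have hy2 : orderOf (y : G) = 2 := by
      rw [Subgroup.orderOf_coe, ← MulEquiv.orderOf_eq c.e, hey]
      refine orderOf_eq_prime ?_ (fun h => hd0 (zC_eq_one.1 h))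
      rw [pow_two, (mul_self_eq_one_iff _).2 ⟨rfl, rfl⟩]
    have h3 := c.eq_one_of_commute (t := t ^ j) (by rw [← pow_mul, mul_comm, pow_mul, ht.2, one_pow]) hy2
      (mul_inv_eq_iff_eq_mul.1 hj')
    rw [← hord]
    exact orderOf_dvd_of_pow_eq_one h3
  have h3 := right_fixed h1 h2 (c.e ⟨z, hz⟩)
  have h4 := hθe 1 ⟨z, hz⟩
  rw [pow_one, pow_one] at h4
  rw [h4] at h3
  have h5 := (c.coe_mem_P (c.conjC tH ⟨z, hz⟩ * (⟨z, hz⟩ : ↥c.C)⁻¹)).2 (by
    rw [map_mul, map_inv, SemidirectProduct.mul_right, SemidirectProduct.inv_right, h3, mul_inv_cancel])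
  exact h5

theorem exists_generator (hu2 : orderOf u = 2) (huH : u ∉ c.H) :
    ∃ t ∈ c.T hu2 huH, orderOf t = q - 1 ∧ ∀ s ∈ c.T hu2 huH, s ∈ Subgroup.zpowers t := by
  obtain ⟨⟨t, ht⟩, hgen⟩ := (c.T_cyclic hu2 huH).exists_generator
  refine ⟨t, ht, ?_, fun s hs => ?_⟩
  · rw [← Subgroup.orderOf_mk t ht, orderOf_eq_card_of_forall_mem_zpowers hgen, c.card_T]
  · obtain ⟨k, hk⟩ := hgen ⟨s, hs⟩
    exact ⟨k, congrArg Subtype.val hk⟩

theorem exists_PD (hu2 : orderOf u = 2) (huH : u ∉ c.H) {g : G} (hg : g ∈ c.H) :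
    ∃ p ∈ c.P, ∃ d ∈ c.D u, g = p * d := by
  obtain ⟨t, ht, hord, hgen⟩ := c.exists_generator hu2 huH
  have ht1 : t ≠ 1 := fun h => by rw [h, orderOf_one] at hord; have := c.hq; omega
  obtain ⟨i, hi, hig⟩ := c.exists_decomp hu2 huH hg
  set z := i⁻¹ * g with hz
  obtain ⟨v, hv, hvt⟩ := c.exists_conj ht.1.1 ht.2 ht1
    (inv_mem (c.conj_right_eq hu2 huH ht hord hig))
  have hcomm : t * (v⁻¹ * z) = v⁻¹ * z * t := by
    calc t * (v⁻¹ * z) = v⁻¹ * (v * t * v⁻¹ * t⁻¹) * (t * z) := by group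
      _ = v⁻¹ * z * t := by rw [hvt]; group
  have hzD : v⁻¹ * z ∈ c.D u := c.centralizer_T_le hu2 huH fun s hs => by
    obtain ⟨k, rfl⟩ := Subgroup.mem_zpowers_iff.1 (hgen s hs)
    exact ((show Commute t (v⁻¹ * z) from hcomm).zpow_left k).eq
  refine ⟨i * v * i⁻¹, c.conj_mem_P hi.1.1 hv, i * (v⁻¹ * z), mul_mem hi.1 hzD, ?_⟩
  rw [hz]
  group

theorem exists_T (hu2 : orderOf u = 2) (huH : u ∉ c.H) {h : G} (hh : h ∈ c.H) (hpow : h ^ (q - 1) = 1) :
    ∃ v ∈ c.P, ∃ t ∈ c.T hu2 huH, h = v * t * v⁻¹ := by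
  obtain ⟨p, hp, d, hd, rfl⟩ := c.exists_PD hu2 huH hh
  have hn : (c.P.subgroupOf c.H).Normal := ⟨fun z hz g => c.conj_mem_P g.2 hz⟩
  let π := QuotientGroup.mk' (c.P.subgroupOf c.H)
  have hpd : π ⟨p * d, hh⟩ = π ⟨d, hd.1⟩ := by
    rw [show (⟨p * d, hh⟩ : ↥c.H) = ⟨p, c.C_le (c.P_le hp)⟩ * ⟨d, hd.1⟩ from rfl, map_mul,
      show π ⟨p, c.C_le (c.P_le hp)⟩ = 1 from (QuotientGroup.eq_one_iff _).2 hp, one_mul]
  have h1 : (π ⟨d, hd.1⟩) ^ (q - 1) = 1 := by
    rw [← hpd, ← map_pow, show (⟨p * d, hh⟩ : ↥c.H) ^ (q - 1) = 1 from Subtype.ext hpow, map_one]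
  rw [← map_pow, QuotientGroup.mk'_apply, QuotientGroup.eq_one_iff, Subgroup.mem_subgroupOf,
    SubgroupClass.coe_pow] at h1
  have hdT : d ^ (q - 1) = 1 := c.eq_one_of_mem_P (c.D_odd hu2 huH) (pow_mem hd _) h1
  by_cases hd1 : d = 1
  · subst hd1
    rw [mul_one] at hpow ⊢
    exact ⟨1, one_mem _, 1, one_mem _, by rw [c.eq_one_of_P_pow hpow hp]; group⟩
  · obtain ⟨v, hv, hvp⟩ := c.exists_conj hd.1 hdT hd1 hp
    exact ⟨v, hv, d, ⟨hd, hdT⟩, by rw [← hvp]; group⟩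

theorem transitive (hu2 : orderOf u = 2) (huH : u ∉ c.H) {r : G ⧸ c.H} (hr : r ≠ c.base) :
    ∃ g ∈ c.H, g • (u • c.base) = r := by
  obtain ⟨w, hw, hwb, hwr⟩ := c.exists_swap (p := c.base) (r := r) hr.symm
  have hwH : w ∉ c.H := fun h => hr (hwb.symm.trans (c.mem_H_iff_smul.1 h))
  obtain ⟨t, ht, hord, hgen⟩ := c.exists_generator hu2 huH
  obtain ⟨v, hv, t', ht', htv⟩ := c.exists_T hw hwH ht.1.1 ht.2
  refine ⟨v⁻¹, c.C_le (c.P_le (inv_mem hv)), ?_⟩
  have hmem : v • r ∈ c.fixT hu2 huH := fun s hs => by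
    obtain ⟨k, rfl⟩ := Subgroup.mem_zpowers_iff.1 (hgen s hs)
    refine MulAction.mem_stabilizer_iff.1 (zpow_mem (MulAction.mem_stabilizer_iff.2 ?_) k)
    have hfix : t' • r = r := by rw [← hwb]; exact MulAction.mem_stabilizer_iff.1 ht'.1.2
    rw [htv, mul_smul, inv_smul_smul, mul_smul, hfix]
  have hne : v • r ≠ c.base := fun h => hr (by
    have := c.mem_H_iff_smul.1 (c.C_le (c.P_le hv))
    exact MulAction.injective v (h.trans this.symm))
  rw [← c.fixT_eq hu2 huH hmem hne, inv_smul_smul]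

theorem two_transitive : MulAction.IsMultiplyPretransitive G (G ⧸ c.H) 2 := by
  rw [MulAction.is_two_pretransitive_iff]
  intro a b a' b' hab hab'
  have key : ∀ {r r' : G ⧸ c.H}, r ≠ c.base → r' ≠ c.base → ∃ g ∈ c.H, g • r = r' := by
    intro r r' hr hr'
    obtain ⟨w, hw, hwb, -⟩ := c.exists_swap (p := c.base) (r := r) hr.symm
    have hwH : w ∉ c.H := fun h => hr (hwb.symm.trans (c.mem_H_iff_smul.1 h))
    obtain ⟨g, hg, hgr⟩ := c.transitive hw hwH hr'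
    exact ⟨g, hg, hwb ▸ hgr⟩
  induction a using QuotientGroup.induction_on with
  | H g =>
    induction a' using QuotientGroup.induction_on with
    | H g' =>
      have e : ∀ k : G, k • c.base = (QuotientGroup.mk k : G ⧸ c.H) := fun k => by
        rw [MulAction.Quotient.smul_mk, smul_eq_mul, mul_one]
      obtain ⟨h, hh, hhb⟩ := key (r := g⁻¹ • b) (r' := g'⁻¹ • b')
        (fun h => hab (by rw [← smul_inv_smul g b, h, e]))
        (fun h => hab' (by rw [← smul_inv_smul g' b', h, e]))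
      refine ⟨g' * h * g⁻¹, ?_, ?_⟩
      · rw [← e, mul_smul, mul_smul, inv_smul_smul, c.mem_H_iff_smul.1 hh, e]
      · rw [mul_smul, mul_smul, hhb, smul_inv_smul]

end Ctx

end Cfsg.Agent.PGU3Rec
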